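import Cfsg.Agent.Lib.UThreeLocal.Two.Image

/-!
# Facts on the natural module: the scalar on one line, and the bound at a singular vector
-/

set_option autoImplicit false
set_option linter.unusedSectionVars false
set_option maxRecDepth 100000

namespace Cfsg.Agent.UThreeLocal.Big.Transfer

open Cfsg.Agent.ThreeTransp.U62Cent
open Cfsg.Agent.ThreeTransp.U62Cent.W8

/-- the scalar on the third line -/
def lineM : List W8 := vecs [1, 2, 4, 8, 32, 48, 64, 128]

theorem line_facts : ∀ v : W8, app lineM (app lineM (app lineM v)) = v ∧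
    qe true (app lineM v) = qe true v ∧ app lineM (W8.sig v) = W8.sig (app lineM v) ∧
    (qe true (app lineM v + v) = false → app lineM v = v) := by decide +kernel

theorem line_five : app lineM (mk 5) = mk 5 := by decide +kernel

/-- The scalar on one line as a permutation. -/
def lineP : Equiv.Perm W8 where
  toFun := app lineM
  invFun := fun v => app lineM (app lineM v)
  left_inv v := (line_facts v).1
  right_inv v := (line_facts v).1

theorem lineP_mem : lineP ∈ GN :=
  ⟨app_add lineM, fun v => (line_facts v).2.1, fun _ v => (line_facts v).2.2.1⟩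

/-- singular fixed vectors orthogonal to the point -/
def lineL : List W8 := (span basis).filter fun v =>
  !qe true v && !bb v (mk 5) && (app lineM v == v)

theorem line_bound : ∀ w ∈ lineL, ∀ x ∈ lineL,
    x ∈ [0, mk 5, w, w + mk 5] ∨ w ∈ [0, mk 5] ∨ bb w x = true := by decide +kernel

theorem flip_five : ∃ f : W8, bb f (mk 5) = false ∧ bb (W8.sig f) (mk 5) = true := by decide +kernel

theorem five_L0 : mk 5 ∈ N.L0 ∧ mk 10 ∈ N.L0 ∧ (0 : W8) ∈ N.L0 ∧
    (∀ v : W8, v ∈ N.C0 → bb v (mk 5) = false ∧ bb (W8.sig v) (mk 5) = false) ∧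
    (∀ v ∈ N.C0, ∀ l ∈ N.L0, bb v l = false) := by decide +kernel

theorem five_facts : qe true (mk 5) = false ∧ mk 5 ≠ 0 := by decide +kernel

/-- A set of pairwise orthogonal singular vectors at the point, invariant under the scalar on a line, is
small. -/
theorem small_singular {S : Set W8} (h5 : mk 5 ∈ S) (hq : ∀ v ∈ S, qe true v = false)
    (hadd : ∀ v ∈ S, ∀ w ∈ S, v + w ∈ S) (hline : ∀ v ∈ S, lineP v ∈ S) : S.ncard ≤ 4 := by
  classical
  have hbb : ∀ v ∈ S, ∀ w ∈ S, bb v w = false := fun v hv w hw => by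
    have h := qe_add true v w
    rw [hq _ (hadd v hv w hw), hq v hv, hq w hw] at h
    simpa using h.symm
  have hL : ∀ v ∈ S, v ∈ lineL := fun v hv => by
    have hfix : app lineM v = v := (line_facts v).2.2.2 (hq _ (hadd _ (hline v hv) _ hv))
    simp [lineL, List.mem_filter, span_all v, hq v hv, hbb v hv _ h5, hfix]
  by_cases hw : ∃ w ∈ S, w ∉ ([0, mk 5] : List W8)
  · obtain ⟨w, hw, hw0⟩ := hw
    refine le_trans (Set.ncard_le_ncard (t := (↑([0, mk 5, w, w + mk 5] : List W8).toFinset : Set W8))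
      (fun x hx => ?_) (Set.toFinite _)) ((Set.ncard_coe_finset _).trans_le (List.toFinset_card_le _))
    rw [List.coe_toFinset]
    rcases line_bound w (hL w hw) x (hL x hx) with h | h | h
    · exact h
    · exact absurd h hw0
    · rw [hbb w hw x hx] at h
      exact absurd h (by decide)
  · push Not at hw
    refine le_trans (Set.ncard_le_ncard (t := (↑([0, mk 5] : List W8).toFinset : Set W8))
      (fun x hx => ?_) (Set.toFinite _))
      (((Set.ncard_coe_finset _).trans_le (List.toFinset_card_le _)).trans (by norm_num))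
    rw [List.coe_toFinset]
    exact hw x hx

/-- A linear involution at the point moving its orthogonal space into a small set is the transvection. -/
theorem moved_small {t : Equiv.Perm W8} (ht : t ∈ GN) (h2 : t * t = 1) (h5 : t (mk 5) = mk 5)
    {S : Set W8} (hS : S.ncard ≤ 4) (hS5 : mk 5 ∈ S) (hS0 : (0 : W8) ∈ S)
    (hmove : ∀ v, bb v (mk 5) = false → t v + v ∈ S) : t = 1 ∨ ∀ v, t v = N.a0 v := by
  classical
  obtain ⟨hL5, -, hL00, hperp, horth⟩ := five_L0
  refine N.fix0_group ht fun c hc => ?_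
  by_contra hne
  set d := t c + c with hd
  have hd0 : d ≠ 0 := fun e => hne (W8.eq_of_add e)
  have hsigS : ∀ w, w ∈ N.C0 → t (W8.sig w) + W8.sig w ∈ S := fun w hw =>
    hmove _ ((hperp w hw).2)
  have hd1 : W8.sig d ∈ S := by
    rw [hd, W8.sig_add, ← ht.sig rfl]
    exact hsigS c hc
  have hd2 : W8.sig (W8.sig d) ∈ S := by
    rw [hd, W8.sig_add, ← ht.sig rfl, W8.sig_add, ← ht.sig rfl]
    exact hsigS _ (N.C0_lt.2.2.2.2.2.2.1 c hc)
  have hdS : d ∈ S := hmove c (hperp c hc).1
  have hline : ∀ p : W8, p ≠ 0 → W8.sig p ≠ p ∧ W8.sig (W8.sig p) ≠ p ∧ W8.sig (W8.sig p) ≠ W8.sig p ∧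
      W8.sig p ≠ 0 ∧ W8.sig (W8.sig p) ≠ 0 := by decide +kernel
  obtain ⟨n1, n2, n3, n4, n5⟩ := hline d hd0
  have h4 : ({0, d, W8.sig d, W8.sig (W8.sig d)} : Set W8).ncard = 4 := by
    simp [Set.ncard_insert_of_notMem, hd0.symm, n1.symm, n2.symm, n3.symm, n4.symm, n5.symm]
  have hsub : ({0, d, W8.sig d, W8.sig (W8.sig d)} : Set W8) ⊆ S := by
    intro x hx
    simp only [Set.mem_insert_iff, Set.mem_singleton_iff] at hx
    rcases hx with rfl | rfl | rfl | rfl <;> assumption
  have heq := Set.eq_of_subset_of_ncard_le hsub (by omega) (Set.toFinite _)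
  have hcl : ∀ v ∈ N.L0, W8.sig v ∈ N.L0 := N.C0_lt.2.2.2.2.2.2.2.1
  have hdL : d ∈ N.L0 := by
    rw [← heq] at hS5
    simp only [Set.mem_insert_iff, Set.mem_singleton_iff] at hS5
    rcases hS5 with e | e | e | e
    · exact absurd e five_facts.2
    · exact e ▸ hL5
    · rw [← W8.sig_three d, ← e]; exact hcl _ (hcl _ hL5)
    · rw [← W8.sig_three d, ← e]; exact hcl _ hL5
  have hSL : ∀ x ∈ S, x ∈ N.L0 := by
    intro x hx
    rw [← heq] at hx
    simp only [Set.mem_insert_iff, Set.mem_singleton_iff] at hx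
    rcases hx with rfl | rfl | rfl | rfl
    · exact hL00
    · exact hdL
    · exact hcl _ hdL
    · exact hcl _ (hcl _ hdL)
  obtain ⟨f, hf1, hf2⟩ := flip_five
  have hall : ∀ v, t v + v ∈ N.L0 := by
    intro v
    cases hb : bb v (mk 5)
    · exact hSL _ (hmove v hb)
    · have hw : bb (v + W8.sig f) (mk 5) = false := by rw [bb_add_left, hb, hf2]; rfl
      have h1 := hSL _ (hmove _ hw)
      have h2' := hcl _ (hSL _ (hmove f hf1))
      have h3 := N.split0.L_add _ h1 _ h2'
      rwa [ht.add, W8.sig_add, ← ht.sig rfl,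
        show t v + t (W8.sig f) + (v + W8.sig f) + (t (W8.sig f) + W8.sig f) =
          t v + v + ((t (W8.sig f) + W8.sig f) + (t (W8.sig f) + W8.sig f)) by abel,
        W8.add_self, add_zero] at h3
  refine hd0 ((bb_nondeg d).resolve_right ?_)
  rintro ⟨v, -, hv⟩
  have h1 : bb (t c) v = bb c (t v) := by
    conv_rhs => rw [← ht.bb c (t v), ← Equiv.Perm.mul_apply, h2, Equiv.Perm.one_apply]
  rw [hd, bb_add_left, h1, ← bb_add_right, horth c hc _ (hall v)] at hv
  exact absurd hv (by decide)

end Cfsg.Agent.UThreeLocal.Big.Transfer
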