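import Cfsg.Agent.Lib.UThreeLocal.Big.Transfer.Setup
import Cfsg.Agent.Lib.UThreeLocal.Big.Transfer.Facts

/-!
# The involution is weakly closed in the extraspecial group

For a second conjugate `x = g r g⁻¹` in `R`: by the two-part of `C(r) ∩ C(x)` also `g⁻¹ r g` lies in
`R`; then `R ∩ g⁻¹ R g` has order at most eight and the image of `C_R(x)` at most four.
-/

set_option autoImplicit false
set_option linter.unusedSectionVars false
set_option linter.style.haveILetI false
set_option maxRecDepth 100000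

namespace Cfsg.Agent.UThreeLocal.Big.Transfer

open Subgroup
open Cfsg.Agent.ThreeTransp.U62Cent
open Cfsg.Agent.ThreeTransp.U62Cent.W8

universe u

namespace Coord

variable {G : Type u} [Group G] [Finite G] {r : G} {R : Subgroup G} (D : Coord r R)

include D

theorem card_GN_eq : Nat.card ↥GN = 77760 := by
  have hI := D.himg.inat
  set J := D.I.subgroupOf GN
  have hJ : Nat.card ↥J = 25920 := (Nat.card_congr (subgroupOfEquivOfLe hI.le).toEquiv).trans hI.card
  have h1 := J.card_mul_index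
  have h3 : 3 ≤ J.index := by
    rw [index_eq_card]
    let f : Fin 3 → ↥GN ⧸ J := fun k => QuotientGroup.mk ⟨sigP ^ (k : ℕ), pow_mem sigP_mem _⟩
    have hf : Function.Injective f := by
      intro a b e
      have h := (QuotientGroup.eq.1 e)
      rw [mem_subgroupOf] at h
      simp only [Subgroup.coe_mul, Subgroup.coe_inv] at h
      have ha := a.2
      have hb := b.2
      have e3 : (sigP ^ (a : ℕ))⁻¹ = sigP ^ (3 - (a : ℕ)) := inv_eq_of_mul_eq_one_right (by
        rw [← pow_add, show (a : ℕ) + (3 - a) = 3 by omega, sigP_pow_three])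
      rw [e3, ← pow_add] at h
      have hk := D.himg.scalar_mem h
      have hd : orderOf sigP ∣ 3 - (a : ℕ) + b := orderOf_dvd_of_pow_eq_one hk
      haveI : Fact (Nat.Prime 3) := ⟨Nat.prime_three⟩
      rw [orderOf_eq_prime sigP_pow_three (fun e1 => hI.sigP_notMem (e1 ▸ one_mem _))] at hd
      exact Fin.ext (by omega)
    have := Nat.card_le_card_of_injective f hf
    rwa [Nat.card_eq_fintype_card, Fintype.card_fin] at this
  have h' := card_GN
  rw [hJ] at h1
  nlinarith

theorem card_range : Nat.card ↥D.π.range = 155520 := by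
  have hidx : (GN.subgroupOf D.π.range).index = 2 := by
    obtain ⟨t, ht, htG⟩ := D.outer
    refine index_eq_two_iff.2 ⟨⟨t, ht⟩, fun b => ?_⟩
    simp only [mem_subgroupOf, Subgroup.coe_mul]
    rw [D.mul_mem_GN_iff b.2 ht]
    by_cases hb : (b : Equiv.Perm W8) ∈ GN <;> simp [hb, htG, Xor']
  have h := (GN.subgroupOf D.π.range).card_mul_index
  rw [hidx, Nat.card_congr (subgroupOfEquivOfLe D.GN_le).toEquiv, D.card_GN_eq] at h
  omega

theorem card_cent : Nat.card ↥(centralizer ({r} : Set G)) = 155520 * 512 := by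
  have h := Subgroup.card_eq_card_quotient_mul_card_subgroup D.π.ker
  rw [Nat.card_congr (QuotientGroup.quotientKerEquivRange D.π).toEquiv, D.card_range] at h
  have hk : D.π.ker = R.subgroupOf (centralizer ({r} : Set G)) := by
    ext c
    rw [MonoidHom.mem_ker, D.ker, mem_subgroupOf]
  rw [h, hk, Nat.card_congr (subgroupOfEquivOfLe D.R_le).toEquiv, D.card_R]

/-- A lift exactly mapping one singular element to another. -/
theorem exists_map {x y : G} (hx : x ∈ R) (hy : y ∈ R) (hvx : D.vec x ≠ 0) (hvy : D.vec y ≠ 0)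
    (hqx : qe true (D.vec x) = false) (hqy : qe true (D.vec y) = false) :
    ∃ c, Commute c r ∧ c * x * c⁻¹ = y := by
  obtain ⟨a, ha, ea⟩ := D.himg.inat.trans5 hvx hqx
  obtain ⟨b, hb, eb⟩ := D.himg.inat.trans5 hvy hqy
  obtain ⟨c, hc, ec⟩ := D.exists_img (D.himg.le (mul_mem hb (inv_mem ha)))
  have e : D.vec (c * x * c⁻¹) = D.vec y := by
    rw [D.vec_conj' hc hx, ec, Equiv.Perm.mul_apply]
    conv_lhs => rw [← ea]
    rw [Equiv.Perm.inv_def, Equiv.symm_apply_apply, eb]
  obtain ⟨t, ht⟩ := D.eq_zb (D.conj_R hc hx) hy e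
  cases t
  · exact ⟨c, hc, by rw [ht, zb_false, mul_one]⟩
  obtain ⟨w, -, hw⟩ := (bb_nondeg (D.vec y)).resolve_left hvy
  have hwm := D.lift_mem w
  refine ⟨D.lift w * c, (D.commute_R hwm).mul_left hc, ?_⟩
  rw [show D.lift w * c * x * (D.lift w * c)⁻¹ = D.lift w * (c * x * c⁻¹) * (D.lift w)⁻¹ by group,
    D.conj_eq hwm (D.conj_R hc hx), D.vec_lift, e, bb_comm, hw, ht]

/-- The other conjugate lies in `R` as well. -/
theorem mem_R_of_conj {g : G} (hx : g * r * g⁻¹ ∈ R) (hne : g * r * g⁻¹ ≠ r) : g⁻¹ * r * g ∈ R := by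
  classical
  set x := g * r * g⁻¹ with hxd
  set w := g⁻¹ * r * g with hwd
  have hxr : Commute x r := D.commute_R hx
  have hwr : Commute w r := by
    have h := Commute.map hxr.symm (MulAut.conj g⁻¹).toMonoidHom
    simp only [MulEquiv.coe_toMonoidHom, MulAut.conj_apply, inv_inv] at h
    rwa [show g⁻¹ * x * g = r by rw [hxd]; group] at h
  have hxx : x * x = 1 := by
    rw [show x * x = g * (r * r) * g⁻¹ by rw [hxd]; group, D.rr, mul_one, mul_inv_cancel]
  have hq := D.qe_of_sq hx hxx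
  have hv : D.vec x ≠ 0 := fun h0 => (D.vec_cases hx h0).elim
    (fun e => D.ne_one (conj_eq_one_iff.1 (hxd ▸ e))) hne
  -- the orbit of `x`
  set C := centralizer ({r} : Set G) with hC
  let O := {y : G // y ∈ R ∧ qe true (D.vec y) = false ∧ D.vec y ≠ 0}
  letI : MulAction ↥C O :=
    { smul := fun c y => ⟨(c : G) * y.1 * (c : G)⁻¹, D.conj_R (mem_cent.1 c.2) y.2.1,
        by rw [D.vec_conj' (mem_cent.1 c.2) y.2.1, D.img_q]; exact y.2.2.1,
        by
          rw [D.vec_conj' (mem_cent.1 c.2) y.2.1]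
          exact fun e => y.2.2.2 ((D.img (c : G)).injective (e.trans (D.img_zero _).symm))⟩
      one_smul := fun y => Subtype.ext (by show (1 : G) * y.1 * (1 : G)⁻¹ = y.1; simp)
      mul_smul := fun a b y => Subtype.ext (by
        show ((a : G) * b) * y.1 * ((a : G) * b)⁻¹ = a * (b * y.1 * (b : G)⁻¹) * (a : G)⁻¹; group) }
  let x0 : O := ⟨x, hx, hq, hv⟩
  have htrans : MulAction.orbit ↥C x0 = Set.univ := by
    refine Set.eq_univ_of_forall fun y => ?_
    obtain ⟨c, hc, e⟩ := D.exists_map hx y.2.1 hv y.2.2.2 hq y.2.2.1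
    exact ⟨⟨c, mem_cent.2 hc⟩, Subtype.ext e⟩
  have hO : Nat.card O = 270 := by
    let e : O ≃ ↥{v : W8 | qe true v = false ∧ v ≠ 0} × Bool :=
      Equiv.ofBijective (fun y => (⟨D.vec y.1, y.2.2⟩, decide (y.1 = D.lift (D.vec y.1) * r)))
        ⟨fun a b h => by
          simp only [Prod.mk.injEq, Subtype.mk.injEq, decide_eq_decide] at h
          obtain ⟨t, ht⟩ := D.exists_lift a.2.1
          obtain ⟨s, hs⟩ := D.exists_lift b.2.1
          refine Subtype.ext ?_
          rw [ht, hs, h.1]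
          cases t <;> cases s <;> try rfl
          · exfalso
            exact D.ne_one (mul_left_cancel
              ((ht.symm.trans (h.2.2 hs)) : D.lift (D.vec a.1) * 1 = D.lift (D.vec a.1) * r)).symm
          · exfalso
            exact D.ne_one (mul_left_cancel ((hs.symm.trans (h.2.1 ht)) : D.lift (D.vec b.1) * 1 = D.lift (D.vec b.1) * r)).symm,
        fun p => by
          obtain ⟨⟨v, hv1, hv2⟩, t⟩ := p
          have hmem := mul_mem (D.lift_mem v) (D.zb_mem t)
          have hvec : D.vec (D.lift v * zb r t) = v := by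
            rw [D.vec_mul (D.lift_mem v) (D.zb_mem t), D.vec_lift, D.vec_zb, add_zero]
          refine ⟨⟨D.lift v * zb r t, hmem, by rw [hvec]; exact hv1, by rw [hvec]; exact hv2⟩, ?_⟩
          simp only [Prod.mk.injEq, Subtype.mk.injEq]
          refine ⟨hvec, ?_⟩
          simp only [hvec]
          cases t
          · exact decide_eq_false fun e => D.ne_one (mul_left_cancel e).symm
          · exact decide_eq_true rfl⟩
    rw [Nat.card_congr e, Nat.card_prod, Nat.card_coe_set_eq, N.ncard_singular,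
      Nat.card_eq_fintype_card (α := Bool), Fintype.card_bool]
  have hcard := (MulAction.stabilizer ↥C x0).card_mul_index
  rw [MulAction.index_stabilizer, htrans, Set.ncard_univ, hO, D.card_cent] at hcard
  -- it lies in the centraliser of the other conjugate
  let Y := C ⊓ centralizer ({w} : Set G)
  have hYcard : Nat.card ↥(MulAction.stabilizer ↥C x0) = Nat.card ↥Y := by
    refine Nat.card_congr
      { toFun := fun c => ⟨g⁻¹ * ((c : ↥C) : G) * g, ?_, ?_⟩
        invFun := fun c => ⟨⟨g * (c : G) * g⁻¹, ?_⟩, ?_⟩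
        left_inv := fun c => Subtype.ext (Subtype.ext (by
          show g * (g⁻¹ * ((c : ↥C) : G) * g) * g⁻¹ = _; group))
        right_inv := fun c => Subtype.ext (by show g⁻¹ * (g * (c : G) * g⁻¹) * g = _; group) }
    · refine mem_centralizer_singleton_iff.2 ?_
      have h : ((c : ↥C) : G) * x * ((c : ↥C) : G)⁻¹ = x := congrArg Subtype.val c.2
      have h' := mul_inv_eq_iff_eq_mul.1 h
      calc g⁻¹ * ((c : ↥C) : G) * g * r = g⁻¹ * (((c : ↥C) : G) * x) * g := by rw [hxd]; group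
        _ = g⁻¹ * (x * ((c : ↥C) : G)) * g := by rw [h']
        _ = r * (g⁻¹ * ((c : ↥C) : G) * g) := by rw [hxd]; group
    · refine mem_centralizer_singleton_iff.2 ?_
      have h := (mem_cent.1 (c : ↥C).2).eq
      calc g⁻¹ * ((c : ↥C) : G) * g * w = g⁻¹ * (((c : ↥C) : G) * r) * g := by rw [hwd]; group
        _ = g⁻¹ * (r * ((c : ↥C) : G)) * g := by rw [h]
        _ = w * (g⁻¹ * ((c : ↥C) : G) * g) := by rw [hwd]; group
    · refine mem_centralizer_singleton_iff.2 ?_
      have h := (mem_cent.1 c.2.2).eq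
      calc g * (c : G) * g⁻¹ * r = g * ((c : G) * w) * g⁻¹ := by rw [hwd]; group
        _ = g * (w * (c : G)) * g⁻¹ := by rw [h]
        _ = r * (g * (c : G) * g⁻¹) := by rw [hwd]; group
    · refine Subtype.ext ?_
      show g * (c : G) * g⁻¹ * x * (g * (c : G) * g⁻¹)⁻¹ = x
      rw [mul_inv_eq_iff_eq_mul]
      have h := (mem_cent.1 c.2.1).eq
      calc g * (c : G) * g⁻¹ * x = g * ((c : G) * r) * g⁻¹ := by rw [hxd]; group
        _ = g * (r * (c : G)) * g⁻¹ := by rw [h]
        _ = x * (g * (c : G) * g⁻¹) := by rw [hxd]; group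
  rw [hYcard] at hcard
  by_contra hwR
  -- the order of that centraliser
  let f : ↥Y →* Equiv.Perm W8 := D.π.comp (inclusion inf_le_left)
  have hY := Subgroup.card_eq_card_quotient_mul_card_subgroup f.ker
  rw [Nat.card_congr (QuotientGroup.quotientKerEquivRange f).toEquiv] at hY
  have hk : f.ker = (R ⊓ centralizer ({w} : Set G)).subgroupOf Y := by
    ext c
    rw [MonoidHom.mem_ker, mem_subgroupOf, MonoidHom.comp_apply, D.ker]
    exact ⟨fun h => ⟨h, c.2.2⟩, fun h => h.1⟩
  have hle : R ⊓ centralizer ({w} : Set G) ≤ Y := inf_le_inf_right _ D.R_le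
  rw [hk, Nat.card_congr (subgroupOfEquivOfLe hle).toEquiv] at hY
  have hrange : Nat.card ↥f.range ∣ 155520 := D.card_range ▸ card_dvd_of_le (by rintro _ ⟨c, rfl⟩; exact ⟨_, rfl⟩)
  have hfix : {v : W8 | D.img w v = v}.ncard < 128 := by
    by_contra hlt
    exact hwR ((D.img_eq_one hwr).1 (D.eq_one_of_big_fix (D.img_mem w) (by omega)))
  have hS : Nat.card ↥(R ⊓ centralizer ({w} : Set G)) ≤ 2 * {v : W8 | D.img w v = v}.ncard :=
    D.card_le inf_le_left fun y hy => D.fix_of_commute hwr hy.1 (mem_cent.1 hy.2).symm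
  have hR : IsPGroup 2 ↥R := IsPGroup.of_card (n := 9) (by rw [D.card_R]; norm_num)
  haveI : Fact (Nat.Prime 2) := ⟨Nat.prime_two⟩
  obtain ⟨k, hk⟩ := IsPGroup.iff_card.1 (hR.to_le (inf_le_left : R ⊓ centralizer ({w} : Set G) ≤ R))
  rw [hk] at hS hY
  have hk7 : k ≤ 7 := by
    by_contra hk8
    have : 2 ^ 8 ≤ 2 ^ k := Nat.pow_le_pow_right (by norm_num) (by omega)
    omega
  have hd : 294912 ∣ 155520 * 2 ^ 7 := by
    rw [show (294912 : ℕ) = Nat.card ↥Y by omega, hY]
    exact mul_dvd_mul hrange (pow_dvd_pow 2 hk7)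
  norm_num at hd

/-- The involution is weakly closed in `R`. -/
theorem weakly_closed {h : G} (hx : h * r * h⁻¹ ∈ R) : h * r * h⁻¹ = r := by
  classical
  by_contra hne0
  have hxx0 : h * r * h⁻¹ * (h * r * h⁻¹) = 1 := by
    rw [show h * r * h⁻¹ * (h * r * h⁻¹) = h * (r * r) * h⁻¹ by group, D.rr, mul_one, mul_inv_cancel]
  have hv0 : D.vec (h * r * h⁻¹) ≠ 0 := fun h0 => (D.vec_cases hx h0).elim
    (fun e => D.ne_one (conj_eq_one_iff.1 e)) hne0
  obtain ⟨hq5, h50⟩ := five_facts
  obtain ⟨c0, hc0, ec0⟩ := D.exists_map hx (D.lift_mem (W8.mk 5)) hv0 (by rw [D.vec_lift]; exact h50)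
    (D.qe_of_sq hx hxx0) (by rw [D.vec_lift]; exact hq5)
  -- normal position: `x = g⁻¹ r g` is the point
  obtain ⟨g, hgx⟩ : ∃ g : G, g⁻¹ * r * g = D.lift (W8.mk 5) := ⟨(c0 * h)⁻¹, by rw [← ec0]; group⟩
  set x := D.lift (W8.mk 5) with hxd
  have hxR : x ∈ R := D.lift_mem _
  have hx5 : D.vec x = W8.mk 5 := D.vec_lift _
  have hxr : x ≠ r := fun e => h50 (by rw [← hx5, e, D.vec_r])
  set x' := g * r * g⁻¹ with hx'd
  have hx'R : x' ∈ R := by
    have h1 := D.mem_R_of_conj (g := g⁻¹) (by rw [inv_inv, hgx]; exact hxR) (by rw [inv_inv, hgx]; exact hxr)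
    rwa [inv_inv] at h1
  have hxx : x * x = 1 := D.sq_one hxR (by rw [hx5]; exact hq5)
  -- the common part
  let U : Subgroup G := R ⊓ R.comap (MulAut.conj g).toMonoidHom
  have hUmem : ∀ {y}, y ∈ U ↔ y ∈ R ∧ g * y * g⁻¹ ∈ R := fun {y} => by
    simp only [U, mem_inf, mem_comap, MulEquiv.coe_toMonoidHom, MulAut.conj_apply]
  have hUsq : ∀ y ∈ U, y * y = 1 := by
    intro y hy
    obtain ⟨h1, h2⟩ := hUmem.1 hy
    have e1 := D.sq h1
    have e2 := D.sq h2
    cases hq : qe true (D.vec y)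
    · rw [e1, hq, zb_false]
    exfalso
    rw [hq, zb_true] at e1
    rw [show g * y * g⁻¹ * (g * y * g⁻¹) = g * (y * y) * g⁻¹ by group, e1] at e2
    cases hq' : qe true (D.vec (g * y * g⁻¹))
    · rw [hq', zb_false] at e2
      exact D.ne_one (conj_eq_one_iff.1 e2)
    · rw [hq', zb_true] at e2
      exact hxr (by rw [← hgx]; conv_lhs => arg 1; arg 2; rw [← e2]
                    group)
  have hUcent : ∀ c : G, Commute c r → Commute c x → ∀ y ∈ U, c * y * c⁻¹ ∈ U := by
    intro c hc hcx y hy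
    obtain ⟨h1, h2⟩ := hUmem.1 hy
    refine hUmem.2 ⟨D.conj_R hc h1, ?_⟩
    have hgc : Commute (g * c * g⁻¹) r := by
      have h := Commute.map hcx (MulAut.conj g).toMonoidHom
      simp only [MulEquiv.coe_toMonoidHom, MulAut.conj_apply] at h
      rwa [← hgx, show g * (g⁻¹ * r * g) * g⁻¹ = r by group] at h
    rw [show g * (c * y * c⁻¹) * g⁻¹ = g * c * g⁻¹ * (g * y * g⁻¹) * (g * c * g⁻¹)⁻¹ by group]
    exact D.conj_R hgc h2
  set S := D.vec '' (U : Set G) with hS
  have hxU : x ∈ U := hUmem.2 ⟨hxR, by rw [← hgx, show g * (g⁻¹ * r * g) * g⁻¹ = r by group]; exact D.r_mem⟩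
  have hS5 : W8.mk 5 ∈ S := ⟨x, hxU, hx5⟩
  have hS0 : (0 : W8) ∈ S := ⟨1, one_mem _, D.vec_one⟩
  have hScard : S.ncard ≤ 4 := by
    refine small_singular hS5 ?_ ?_ ?_
    · rintro _ ⟨y, hy, rfl⟩
      exact D.qe_of_sq (hUmem.1 hy).1 (hUsq y hy)
    · rintro _ ⟨y, hy, rfl⟩ _ ⟨z, hz, rfl⟩
      exact ⟨y * z, mul_mem hy hz, D.vec_mul (hUmem.1 hy).1 (hUmem.1 hz).1⟩
    · rintro _ ⟨y, hy, rfl⟩
      obtain ⟨c, hc, ec⟩ := D.exists_img (D.GN_le lineP_mem)
      have e5 : D.vec (c * x * c⁻¹) = W8.mk 5 := by rw [D.vec_conj' hc hxR, ec, hx5]; exact line_five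
      obtain ⟨t, ht⟩ := D.eq_zb hxR (D.conj_R hc hxR) (hx5.trans e5.symm)
      obtain ⟨c', hc', ec', hcx'⟩ : ∃ c', Commute c' r ∧ D.img c' = lineP ∧ Commute c' x := by
        cases t
        · exact ⟨c, hc, ec, mul_inv_eq_iff_eq_mul.1 (by rw [ht, zb_false, mul_one])⟩
        · obtain ⟨w, -, hw⟩ := (bb_nondeg (W8.mk 5)).resolve_left h50
          have hwm := D.lift_mem w
          refine ⟨D.lift w * c, (D.commute_R hwm).mul_left hc, ?_, mul_inv_eq_iff_eq_mul.1 ?_⟩
          · rw [D.img_mul (D.commute_R hwm) hc, D.img_R hwm, one_mul, ec]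
          · rw [show D.lift w * c * x * (D.lift w * c)⁻¹ = D.lift w * (c * x * c⁻¹) * (D.lift w)⁻¹ by group,
              D.conj_eq hwm (D.conj_R hc hxR), D.vec_lift, e5, bb_comm, hw, ht, mul_assoc, zb_mul D.rr]
            simp [zb]
      refine ⟨c' * y * c'⁻¹, hUcent c' hc' hcx' y hy, ?_⟩
      rw [D.vec_conj' hc' (hUmem.1 hy).1, ec']
  -- the image of the centraliser in `R` of the other conjugate
  let X : Subgroup G := R ⊓ centralizer ({x'} : Set G)
  have hv' : D.vec x' ≠ 0 := fun h0 => (D.vec_cases hx'R h0).elim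
    (fun e => D.ne_one (conj_eq_one_iff.1 (hx'd ▸ e))) fun e => hxr (by
      rw [← hgx]
      conv_lhs => arg 1; arg 2; rw [← e]
      rw [hx'd]; group)
  have hX : 256 ≤ Nat.card ↥X := by
    refine le_trans ?_ (D.ncard_le_card (S := X) (F := {v | bb v (D.vec x') = false}) fun v hv t =>
      ⟨mul_mem (D.lift_mem v) (D.zb_mem t), mem_cent.2 ?_⟩)
    · have hcompl : {v : W8 | bb v (D.vec x') = false}.ncard = 128 := ncard_perp hv'
      omega
    · refine D.commute_of_bb (mul_mem (D.lift_mem v) (D.zb_mem t)) hx'R ?_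
      rw [D.vec_mul (D.lift_mem v) (D.zb_mem t), D.vec_lift, D.vec_zb, add_zero]
      exact hv
  have hqC : ∀ q ∈ X, Commute (g⁻¹ * q * g) r ∧ Commute (g⁻¹ * q * g) x := by
    intro q hq
    have h1 : Commute q x' := mem_cent.1 hq.2
    have h2 : Commute q r := D.commute_R hq.1
    constructor
    · have h := Commute.map h1 (MulAut.conj g⁻¹).toMonoidHom
      simp only [MulEquiv.coe_toMonoidHom, MulAut.conj_apply, inv_inv] at h
      rwa [show g⁻¹ * x' * g = r by rw [hx'd]; group] at h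
    · have h := Commute.map h2 (MulAut.conj g⁻¹).toMonoidHom
      simp only [MulEquiv.coe_toMonoidHom, MulAut.conj_apply, inv_inv] at h
      rwa [hgx] at h
  let f : ↥X →* Equiv.Perm W8 := MonoidHom.mk' (fun q => D.img (g⁻¹ * (q : G) * g)) fun a b => by
    rw [← D.img_mul (hqC a a.2).1 (hqC b b.2).1]
    congr 1
    push_cast
    group
  have hker : Nat.card ↥f.ker ≤ 8 := by
    let e : ↥f.ker → ↥U := fun q => ⟨g⁻¹ * ((q : ↥X) : G) * g, hUmem.2
      ⟨(D.img_eq_one (hqC _ (q : ↥X).2).1).1 q.2, by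
        rw [show g * (g⁻¹ * ((q : ↥X) : G) * g) * g⁻¹ = ((q : ↥X) : G) by group]
        exact (q : ↥X).2.1⟩⟩
    have he : Function.Injective e := fun a b h =>
      Subtype.ext (Subtype.ext (mul_left_cancel (mul_right_cancel (congrArg Subtype.val h))))
    refine (Nat.card_le_card_of_injective e he).trans ((D.card_le (S := U) inf_le_left
      fun y hy => Set.mem_image_of_mem _ hy).trans ?_)
    have : (D.vec '' (U : Set G)).ncard ≤ 4 := hScard
    omega
  have hlin : ∀ t ∈ f.range, t ∈ GN → t = 1 ∨ ∀ v, t v = N.a0 v := by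
    rintro _ ⟨q, rfl⟩ htG
    obtain ⟨hcr, hcx⟩ := hqC q q.2
    refine moved_small htG ?_ ?_ hScard hS5 hS0 fun v hv => ?_
    · show D.img _ * D.img _ = 1
      rw [← D.img_mul hcr hcr, D.img_eq_one (hcr.mul_left hcr),
        show g⁻¹ * (q : G) * g * (g⁻¹ * (q : G) * g) = g⁻¹ * ((q : G) * q) * g by group, D.sq q.2.1]
      cases qe true (D.vec (q : G))
      · rw [zb_false, mul_one, inv_mul_cancel]; exact one_mem _
      · rw [zb_true, hgx]; exact hxR
    · show D.img _ (W8.mk 5) = W8.mk 5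
      rw [← hx5]
      exact D.fix_of_commute hcr hxR hcx
    · set y := D.lift v
      have hy := D.lift_mem v
      have hyx : Commute y x := D.commute_of_bb hy hxR (by rw [D.vec_lift, hx5]; exact hv)
      refine ⟨g⁻¹ * (q : G) * g * y * (g⁻¹ * (q : G) * g)⁻¹ * y⁻¹,
        hUmem.2 ⟨(D.commutator_R hcr hy).1, ?_⟩, ?_⟩
      · rw [show g * (g⁻¹ * (q : G) * g * y * (g⁻¹ * (q : G) * g)⁻¹ * y⁻¹) * g⁻¹ =
          (q : G) * ((g * y * g⁻¹) * (q : G)⁻¹ * (g * y * g⁻¹)⁻¹) by group]
        refine mul_mem q.2.1 (D.conj_R ?_ (inv_mem q.2.1))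
        have h := Commute.map hyx (MulAut.conj g).toMonoidHom
        simp only [MulEquiv.coe_toMonoidHom, MulAut.conj_apply] at h
        rwa [← hgx, show g * (g⁻¹ * r * g) * g⁻¹ = r by group] at h
      · rw [(D.commutator_R hcr hy).2, D.vec_lift]
        rfl
  have hrange : Nat.card ↥f.range ≤ 4 := by
    obtain ⟨a, ha⟩ : ∃ a : Equiv.Perm W8, ∀ v, a v = N.a0 v :=
      ⟨tvP (W8.mk 5) N.five_pt.1, fun _ => rfl⟩
    have hsub : ∃ T : Finset (Equiv.Perm W8), T.card ≤ 4 ∧ ∀ t ∈ f.range, t ∈ T := by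
      by_cases hex : ∃ t0 ∈ f.range, t0 ∉ GN
      · obtain ⟨t0, ht0, ht0G⟩ := hex
        refine ⟨{1, a, t0, t0 * a}, Finset.card_le_four, fun t ht => ?_⟩
        simp only [Finset.mem_insert, Finset.mem_singleton]
        by_cases htG : t ∈ GN
        · rcases hlin t ht htG with e | e
          · exact Or.inl e
          · exact Or.inr (Or.inl (Equiv.ext fun v => by rw [e, ha]))
        · have hm : t0⁻¹ * t ∈ GN := by
            have hR : f.range ≤ D.π.range := by rintro _ ⟨q, rfl⟩; exact D.img_mem _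
            exact (D.mul_mem_GN_iff (inv_mem (hR ht0)) (hR ht)).2 (by simp [ht0G, htG])
          rcases hlin _ (mul_mem (inv_mem ht0) ht) hm with e | e
          · exact Or.inr (Or.inr (Or.inl (inv_mul_eq_one.1 e).symm))
          · refine Or.inr (Or.inr (Or.inr ?_))
            rw [show a = t0⁻¹ * t from Equiv.ext fun v => by rw [e, ha], mul_inv_cancel_left]
      · push Not at hex
        refine ⟨{1, a}, Finset.card_le_two.trans (by norm_num), fun t ht => ?_⟩
        simp only [Finset.mem_insert, Finset.mem_singleton]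
        rcases hlin t ht (hex t ht) with e | e
        · exact Or.inl e
        · exact Or.inr (Equiv.ext fun v => by rw [e, ha])
    obtain ⟨T, hT4, hT⟩ := hsub
    have := Nat.card_le_card_of_injective (fun t : ↥f.range => (⟨t, hT t t.2⟩ : ↥T))
      fun a b h => Subtype.ext (congrArg (fun z : ↥T => (z : Equiv.Perm W8)) h)
    rw [Nat.card_eq_finsetCard] at this
    omega
  have hcardX := Subgroup.card_eq_card_quotient_mul_card_subgroup f.ker
  rw [Nat.card_congr (QuotientGroup.quotientKerEquivRange f).toEquiv] at hcardX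
  nlinarith

end Coord

end Cfsg.Agent.UThreeLocal.Big.Transfer
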