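import Cfsg.Agent.Lib.UThreeLocal.Big.Transfer.Setup
import Cfsg.Agent.Lib.ThreeTransp.U62Cent.AutNatOuter

/-!
# An outer element with totally singular fixed space

It commutes with the preimage of its fixed space in `R`, and for an involution this preimage consists of
commutators of its centraliser in `C(r)`.
-/

set_option autoImplicit false
set_option linter.unusedSectionVars false
set_option linter.style.haveILetI false
set_option maxRecDepth 100000

namespace Cfsg.Agent.UThreeLocal.Big.Transfer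

open Subgroup
open Cfsg.Agent.ThreeTransp.U62Cent
open Cfsg.Agent.ThreeTransp.U62Cent.W8
open scoped commutatorElement

universe u

namespace Coord

variable {G : Type u} [Group G] [Finite G] {r : G} {R : Subgroup G} (D : Coord r R)

include D

/-- An outer element of central square with totally singular fixed space centralises its preimage. -/
theorem commute_fix {u : G} (hu : Commute u r) (hout : D.img u ∉ GN) (hu2 : u * u = 1 ∨ u * u = r)
    (hq0 : ∀ v, D.img u v = v → qe true v = false) {q : G} (hq : q ∈ R)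
    (hfix : D.img u (D.vec q) = D.vec q) : Commute q u := by
  have huR : u * u ∈ R := by
    rcases hu2 with e | e <;> rw [e]
    · exact one_mem _
    · exact D.r_mem
  have hS := D.semi_of hout (by rw [← D.img_mul hu hu, D.img_R huR])
  set y := D.lift (W8.sig (D.vec q)) with hy
  have hym : y ∈ R := D.lift_mem _
  obtain ⟨hw, hwv⟩ := D.commutator_R hu hym
  set w := u * y * u⁻¹ * y⁻¹ with hwd
  rw [hy, D.vec_lift, hS.fix_im hfix] at hwv
  have hw2 : w⁻¹ = w := inv_eq_of_mul_eq_one_right (D.sq_one hw (by rw [hwv]; exact hq0 _ hfix))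
  have hc : Commute (u * u) y := by
    rcases hu2 with e | e <;> rw [e]
    · exact Commute.one_left y
    · exact (D.commute_R hym).symm
  have e : u * w * u⁻¹ = w := by
    calc u * w * u⁻¹ = (u * u * y) * (u * u)⁻¹ * (u * y⁻¹ * u⁻¹) := by rw [hwd]; group
      _ = y * (u * u) * (u * u)⁻¹ * (u * y⁻¹ * u⁻¹) := by rw [hc.eq]
      _ = w⁻¹ := by rw [hwd]; group
      _ = w := hw2
  obtain ⟨t, ht⟩ := D.eq_zb hw hq hwv
  rw [ht]
  exact Commute.mul_left (show Commute w u from (mul_inv_eq_iff_eq_mul.1 e).symm) (D.commute_zb hu t).symm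

/-- The commutator of `x` with a member of `R` is additive up to the form. -/
theorem commutator_mul {x y y' : G} (hx : Commute x r) (hy : y ∈ R) (hy' : y' ∈ R) :
    x * (y * y') * x⁻¹ * (y * y')⁻¹ = x * y * x⁻¹ * y⁻¹ * (x * y' * x⁻¹ * y'⁻¹) *
      zb r (bb (D.vec y) (D.img x (D.vec y') + D.vec y')) := by
  calc x * (y * y') * x⁻¹ * (y * y')⁻¹
      = x * y * x⁻¹ * y⁻¹ * (y * (x * y' * x⁻¹ * y'⁻¹) * y⁻¹) := by group
    _ = _ := by rw [D.conj_eq hy (D.commutator_R hx hy').1, (D.commutator_R hx hy').2, ← mul_assoc]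

/-- For an outer involution with totally singular fixed space, the members of `R` which commute with
it lie in the commutator subgroup of its centraliser. -/
theorem mem_derived {x : G} (hx : Commute x r) (hx2 : x * x = 1) (hout : D.img x ∉ GN)
    (hq0 : ∀ v, D.img x v = v → qe true v = false) {q : G} (hq : q ∈ R) (hqx : Commute q x) :
    q ∈ (⁅centralizer ({r} : Set G) ⊓ centralizer ({x} : Set G),
      centralizer ({r} : Set G) ⊓ centralizer ({x} : Set G)⁆ : Subgroup G) := by
  classical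
  set X := centralizer ({r} : Set G) ⊓ centralizer ({x} : Set G) with hX
  set τ := D.img x with hτ
  have hxinv : x⁻¹ = x := inv_eq_of_mul_eq_one_right hx2
  have hS : N.Semi τ := D.semi_of hout (by rw [← D.img_mul hx hx, hx2, D.img_R (one_mem _)])
  have hXmem : ∀ {c : G}, Commute c r → Commute c x → c ∈ X := fun h1 h2 =>
    ⟨mem_cent.2 h1, mem_cent.2 h2⟩
  let s : W8 → G := fun v => x * D.lift (W8.sig v) * x⁻¹ * (D.lift (W8.sig v))⁻¹
  have hsR : ∀ v, s v ∈ R := fun v => (D.commutator_R hx (D.lift_mem _)).1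
  have hsv : ∀ {v}, τ v = v → D.vec (s v) = v := fun {v} hv => by
    rw [(D.commutator_R hx (D.lift_mem _)).2, D.vec_lift, ← hτ, hS.fix_im hv]
  have hsx : ∀ {v}, τ v = v → Commute (s v) x := fun {v} hv =>
    D.commute_fix hx hout (Or.inl hx2) hq0 (hsR v) (by rw [hsv hv]; exact hv)
  have hsX : ∀ {v}, τ v = v → s v ∈ X := fun {v} hv => hXmem (D.commute_R (hsR v)) (hsx hv)
  have hs2 : ∀ {v}, τ v = v → (s v)⁻¹ = s v := fun {v} hv =>
    inv_eq_of_mul_eq_one_right (D.sq_one (hsR v) (by rw [hsv hv]; exact hq0 _ hv))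
  have hrep : ∀ {y : G} {v : W8}, y ∈ R → D.vec y = W8.sig v → x * y * x⁻¹ * y⁻¹ = s v := by
    intro y v hy hyv
    obtain ⟨t, rfl⟩ := D.eq_zb (D.lift_mem _) hy ((D.vec_lift _).trans hyv.symm)
    show _ = x * D.lift (W8.sig v) * x⁻¹ * (D.lift (W8.sig v))⁻¹
    have h := (D.commute_zb hx t).symm.inv_right
    calc x * (D.lift (W8.sig v) * zb r t) * x⁻¹ * (D.lift (W8.sig v) * zb r t)⁻¹
        = x * D.lift (W8.sig v) * (zb r t * x⁻¹) * (zb r t)⁻¹ * (D.lift (W8.sig v))⁻¹ := by group
      _ = x * D.lift (W8.sig v) * (x⁻¹ * zb r t) * (zb r t)⁻¹ * (D.lift (W8.sig v))⁻¹ := by rw [h.eq]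
      _ = _ := by group
  have hsadd : ∀ {a b}, τ b = b → s (a + b) = s a * s b * zb r (bb (W8.sig a) b) := by
    intro a b hb
    rw [← hrep (mul_mem (D.lift_mem (W8.sig a)) (D.lift_mem (W8.sig b)))
      (by rw [D.vec_mul (D.lift_mem _) (D.lift_mem _), D.vec_lift, D.vec_lift, W8.sig_add]),
      D.commutator_mul hx (D.lift_mem _) (D.lift_mem _), D.vec_lift, D.vec_lift, ← hτ, hS.fix_im hb]
  have hcomm : ∀ {a b}, τ a = a → τ b = b → s a * s b = s b * s a := fun {a b} ha hb =>
    (D.commute_of_bb (hsR a) (hsR b) (by rw [hsv ha, hsv hb]; exact hS.fix_bb ha hb)).eq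
  -- a vector with a partner
  have hmain : ∀ {b}, τ b = b → b ≠ 0 → s b * r ∈ ⁅X, X⁆ := by
    intro b hb hb0
    obtain ⟨a, ha, hab⟩ : ∃ a, τ a = a ∧ bb (W8.sig a) b = true := by
      by_contra hc
      push Not at hc
      refine hb0 (hS.beta_nondeg hb fun w hw => ?_)
      rw [hS.beta_symm hb hw]
      simpa using hc w hw
    have hba : bb (W8.sig b) a = true := by rw [hS.beta_symm hb ha]; exact hab
    have ha0 : a ≠ 0 := by
      rintro rfl
      rw [N.bb_zero] at hba
      exact absurd hba (by decide)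
    obtain ⟨t1, ht1, e1⟩ := D.himg.inat.tv_singular ha0 (hq0 a ha)
    obtain ⟨t2, ht2, e2⟩ := D.himg.inat.tv_singular hb0 (hq0 b hb)
    set h := t1 * t2 with hh
    have hhG : h ∈ D.π.range := D.himg.le (mul_mem ht1 ht2)
    have hhv : ∀ v, h v = tv a (tv b v) := fun v => by rw [hh, Equiv.Perm.mul_apply, e1, e2]
    have hha : h a = b := by
      rw [hhv, hS.tv_fix hb ha, bb_comm, hba, if_pos rfl, hS.tv_fix ha (by rw [hS.add, ha, hb]),
        bb_add_left, bb_comm, hS.beta_self (hq0 a ha), bb_comm b, hab]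
      simp [add_comm a b, add_assoc, W8.add_self]
    have hhb : h b = b + a := by
      rw [hhv, hS.tv_fix hb hb, bb_comm, hS.beta_self (hq0 b hb)]
      simp only [Bool.false_eq_true, if_false, add_zero]
      rw [hS.tv_fix ha hb, bb_comm, hab, if_pos rfl]
    have hhτ : h * τ = τ * h := Equiv.ext fun v => by
      simp only [Equiv.Perm.mul_apply, hhv, hS.tv_comm ha, hS.tv_comm hb]
    obtain ⟨c, hc, hcI⟩ := D.exists_img hhG
    -- a lift commuting with `x` up to the centre
    have hcx : Commute (c * x * c⁻¹) r := (hc.mul_left hx).mul_left hc.inv_left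
    set e := x * (c * x * c⁻¹) with he
    have heR : e ∈ R := by
      rw [← D.img_eq_one (hx.mul_left hcx), D.img_mul hx hcx, D.img_conj hc hx, hcI, ← hτ, hhτ,
        mul_inv_cancel_right]
      exact Equiv.ext fun v => hS.inv v
    have hef : τ (D.vec e) = D.vec e := by
      rw [hτ, ← D.vec_conj' hx heR, ← D.vec_inv heR, he, hxinv]
      congr 1
      rw [show x * (x * (c * x * c⁻¹)) * x = (x * x) * (c * x * c⁻¹) * x by group, hx2, one_mul,
        mul_inv_rev, mul_inv_rev, mul_inv_rev, inv_inv, hxinv]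
      simp only [mul_assoc]
    set w := D.lift (W8.sig (D.vec e)) with hw
    have hwm : w ∈ R := D.lift_mem _
    obtain ⟨t, ht⟩ := D.eq_zb (hsR (D.vec e)) heR (hsv hef)
    set c1 := w⁻¹ * c with hc1
    have hc1r : Commute c1 r := (D.commute_R hwm).inv_left.mul_left hc
    have hc1I : D.img c1 = h := by
      rw [hc1, D.img_mul (D.commute_R hwm).inv_left hc, D.img_R (inv_mem hwm), one_mul, hcI]
    have hc1x : c1 * x * c1⁻¹ = x * zb r t := by
      rw [hc1, show w⁻¹ * c * x * (w⁻¹ * c)⁻¹ = w⁻¹ * (c * x * c⁻¹) * w by group,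
        show c * x * c⁻¹ = x * e by rw [he, ← mul_assoc, hx2, one_mul], ht]
      show w⁻¹ * (x * (x * w * x⁻¹ * w⁻¹ * zb r t)) * w = _
      rw [show w⁻¹ * (x * (x * w * x⁻¹ * w⁻¹ * zb r t)) * w =
        w⁻¹ * ((x * x) * w * x⁻¹ * w⁻¹) * (zb r t * w) by group, hx2, one_mul,
        (D.commute_zb (D.commute_R hwm) t).eq.symm, hxinv]
      group
    set c2 := c1 * c1 with hc2
    have hc2r : Commute c2 r := hc1r.mul_left hc1r
    have hc2x : Commute c2 x := mul_inv_eq_iff_eq_mul.1 (by
      calc c2 * x * c2⁻¹ = c1 * (c1 * x * c1⁻¹) * c1⁻¹ := by rw [hc2]; group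
        _ = c1 * (x * zb r t) * c1⁻¹ := by rw [hc1x]
        _ = c1 * x * c1⁻¹ * (c1 * zb r t * c1⁻¹) := by group
        _ = x := by rw [hc1x, (D.commute_zb hc1r t).eq, mul_inv_cancel_right, mul_assoc,
                      zb_mul D.rr, Bool.xor_self, zb_false, mul_one])
    -- the commutator with the section
    have hc2a : D.img c2 a = b + a := by
      rw [hc2, D.img_mul hc1r hc1r, hc1I, Equiv.Perm.mul_apply, hha, hhb]
    have hconj : c2 * s a * c2⁻¹ = s (b + a) := by
      rw [← hrep (D.conj_R hc2r (D.lift_mem (W8.sig a))) (v := b + a) (by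
        rw [D.vec_conj' hc2r (D.lift_mem _), D.vec_lift, hc2, D.img_mul hc1r hc1r, hc1I]
        have hG : h * h ∈ GN := mul_mem (D.himg.inat.le (mul_mem ht1 ht2)) (D.himg.inat.le (mul_mem ht1 ht2))
        rw [hG.sig rfl, Equiv.Perm.mul_apply, hha, hhb])]
      show c2 * (x * D.lift (W8.sig a) * x⁻¹ * (D.lift (W8.sig a))⁻¹) * c2⁻¹ = _
      calc c2 * (x * D.lift (W8.sig a) * x⁻¹ * (D.lift (W8.sig a))⁻¹) * c2⁻¹
          = (c2 * x) * D.lift (W8.sig a) * (c2 * x)⁻¹ * (c2 * (D.lift (W8.sig a))⁻¹ * c2⁻¹) := by group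
        _ = (x * c2) * D.lift (W8.sig a) * (x * c2)⁻¹ * (c2 * (D.lift (W8.sig a))⁻¹ * c2⁻¹) := by
            rw [hc2x.eq]
        _ = _ := by group
    have hsm := commutator_mem_commutator (hXmem hc2r hc2x) (hsX ha)
    rw [commutatorElement_def, hconj, hsadd ha, hba, zb_true, hs2 ha] at hsm
    have : s b * s a * r * s a = s b * r := by
      rw [mul_assoc (s b * s a), ← (D.commute_R (hsR a)).eq, ← mul_assoc, mul_assoc (s b),
        D.sq_one (hsR a) (by rw [hsv ha]; exact hq0 _ ha), mul_one]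
    rwa [this] at hsm
  -- the involution itself
  have hr : r ∈ ⁅X, X⁆ := by
    have h16 := ncard_fix_ge hS.add hS.inv
    have hpick : ∀ T : Finset W8, T.card < 16 → ∃ v, τ v = v ∧ v ∉ T := by
      intro T hT
      obtain ⟨v, hv, hv'⟩ := Set.exists_mem_notMem_of_ncard_lt_ncard
        (show (↑T : Set W8).ncard < {v : W8 | τ v = v}.ncard by rw [Set.ncard_coe_finset]; omega)
      exact ⟨v, hv, hv'⟩
    obtain ⟨a, ha, ha0⟩ := hpick {0} (by simp)
    obtain ⟨b, hb, hb0, hba, hab⟩ : ∃ b, τ b = b ∧ b ≠ 0 ∧ b ≠ a ∧ bb (W8.sig a) b = false := by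
      obtain ⟨b, hb, hb'⟩ := hpick {0, a} (lt_of_le_of_lt Finset.card_le_two (by norm_num))
      simp only [Finset.mem_insert, Finset.mem_singleton, not_or] at hb'
      cases hab : bb (W8.sig a) b
      · exact ⟨b, hb, hb'.1, hb'.2, hab⟩
      obtain ⟨b', hb1, hb2⟩ := hpick {0, a, b, a + b} (lt_of_le_of_lt Finset.card_le_four (by norm_num))
      simp only [Finset.mem_insert, Finset.mem_singleton, not_or] at hb2
      cases hab' : bb (W8.sig a) b'
      · exact ⟨b', hb1, hb2.1, hb2.2.1, hab'⟩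
      refine ⟨b + b', by rw [hS.add, hb, hb1], fun e => hb2.2.2.1 (W8.eq_of_add e).symm,
        fun e => hb2.2.2.2 ?_, by rw [bb_add_right, hab, hab']; rfl⟩
      rw [← e, add_comm b, add_assoc, W8.add_self, add_zero]
    have ha0' : a ≠ 0 := by simpa using ha0
    have h1 := mul_mem (hmain ha ha0') (hmain hb hb0)
    rw [show s a * r * (s b * r) = s a * s b by
      rw [mul_assoc, ← mul_assoc r, (D.commute_R (hsR b)).eq.symm, mul_assoc (s b), D.rr, mul_one]] at h1
    have h2 := hmain (b := a + b) (by rw [hS.add, ha, hb]) fun e => hba (W8.eq_of_add e).symm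
    rw [hsadd hb, hab, zb_false, mul_one] at h2
    exact (Subgroup.mul_mem_cancel_left _ h1).1 h2
  have hfix : τ (D.vec q) = D.vec q := D.fix_of_commute hx hq hqx.symm
  obtain ⟨t, ht⟩ := D.eq_zb (hsR (D.vec q)) hq (hsv hfix)
  rw [ht]
  refine mul_mem ?_ (by cases t <;> [exact one_mem _; exact hr])
  by_cases h0 : D.vec q = 0
  · rcases D.vec_cases (hsR (D.vec q)) (by rw [hsv hfix, h0]) with e | e <;> rw [e]
    · exact one_mem _
    · exact hr
  · have := mul_mem (hmain hfix h0) hr
    rwa [mul_assoc, D.rr, mul_one] at this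

end Coord

end Cfsg.Agent.UThreeLocal.Big.Transfer
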