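import Cfsg.Agent.Lib.ThreeTransp.U62Cent.TransferTwo
import Mathlib.GroupTheory.Index

/-!
# A subgroup of index two by transfer from the centraliser of an involution

A two-group `P` commuting with `u` permutes the orbits of `⟨u⟩` on the cosets and keeps their values; so
the value of the transfer only comes from the orbits invariant under `P`.
-/

set_option autoImplicit false
set_option linter.unusedSectionVars false
set_option linter.style.haveILetI false

namespace Cfsg.Agent.UThreeLocal.Big.Transfer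

open Subgroup MulAction
open Cfsg.Agent.ThreeTransp.U62Cent.TransferTwo (sgn sgn_eq_one sgn_eq_neg)

universe u

/-- A product invariant under a two-group all whose fixed points but one have value one. -/
theorem prod_eq_of_fixed {D Ω A : Type*} [Group D] [MulAction D Ω] [Fintype Ω] [CommGroup A]
    (hA : ∀ a : A, a ^ 2 = 1) (hD : IsPGroup 2 D) (f : Ω → A) (hinv : ∀ (d : D) ω, f (d • ω) = f ω)
    (p : Ω) (hp : ∀ d : D, d • p = p) (hfix : ∀ ω, (∀ d : D, d • ω = ω) → ω ≠ p → f ω = 1) :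
    ∏ ω, f ω = f p := by
  classical
  haveI : Fact (Nat.Prime 2) := ⟨Nat.prime_two⟩
  rw [← Finset.prod_fiberwise (Finset.univ : Finset Ω) (fun ω => (Quotient.mk'' ω : orbitRel.Quotient D Ω)) f]
  set o : orbitRel.Quotient D Ω := Quotient.mk'' p with ho
  rw [Finset.prod_eq_single o]
  · have hs : (Finset.univ : Finset Ω).filter (fun ω => (Quotient.mk'' ω : orbitRel.Quotient D Ω) = o) = {p} := by
      ext ω
      simp only [Finset.mem_filter, Finset.mem_univ, true_and, Finset.mem_singleton]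
      refine ⟨fun h => ?_, fun h => h ▸ ho.symm⟩
      obtain ⟨d, hd⟩ := Quotient.eq''.1 h
      rw [← hd]
      exact hp d
    rw [hs, Finset.prod_singleton]
  · intro q _ hq
    induction q using Quotient.inductionOn' with
    | h w =>
      obtain ⟨n, hn⟩ := hD.card_orbit w
      have hcard : ((Finset.univ : Finset Ω).filter
          (fun ω => (Quotient.mk'' ω : orbitRel.Quotient D Ω) = Quotient.mk'' w)).card = 2 ^ n := by
        rw [← hn, Nat.card_eq_fintype_card, ← Set.toFinset_card]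
        congr 1
        ext ω
        simp only [Finset.mem_filter, Finset.mem_univ, true_and, Set.mem_toFinset]
        exact Quotient.eq''
      rw [Finset.prod_eq_pow_card (b := f w) fun ω hω => ?_, hcard]
      · rcases Nat.eq_zero_or_pos n with rfl | h0
        · rw [pow_zero, pow_one]
          refine hfix w (fun d => ?_) fun e => hq (by rw [e])
          rw [pow_zero, Nat.card_eq_one_iff_unique] at hn
          exact congrArg Subtype.val (hn.1.elim ⟨d • w, mem_orbit w d⟩ ⟨w, mem_orbit_self w⟩)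
        · obtain ⟨j, rfl⟩ := Nat.exists_eq_add_of_le h0
          rw [pow_add, pow_one, pow_mul, hA, one_pow]
      · simp only [Finset.mem_filter, Finset.mem_univ, true_and] at hω
        obtain ⟨d, hd⟩ := Quotient.eq''.1 hω
        rw [← hd]
        exact hinv d w
  · intro h
    exact absurd (Finset.mem_univ o) h

variable {G : Type u} [Group G] [Finite G]

/-- The transfer from `N` at an element of `N` centralised by a two-group `D ≤ N`. -/
theorem transfer_eq {A : Type*} [CommGroup A] (hA : ∀ a : A, a ^ 2 = 1) {N D : Subgroup G}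
    (hD : IsPGroup 2 ↥D) (hDN : D ≤ N) (φ : ↥N →* A) {u : G} (hu : u ∈ N)
    (hcomm : ∀ d ∈ D, Commute d u)
    (hfix : ∀ (g : G) (m : ℕ), m = Function.minimalPeriod (u • ·) (g : G ⧸ N) →
      (∀ d ∈ D, ∃ k : ℤ, g⁻¹ * u ^ k * d * g ∈ N) → g ∉ N →
      ∀ h : g⁻¹ * u ^ m * g ∈ N, φ ⟨_, h⟩ = 1) :
    φ.transfer u = φ ⟨u, hu⟩ := by
  classical
  haveI : Fintype (Quotient (orbitRel (zpowers u) (G ⧸ N))) := Fintype.ofFinite _
  rw [MonoidHom.transfer_eq_prod_quotient_orbitRel_zpowers_quot]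
  set Ω := Quotient (orbitRel (zpowers u) (G ⧸ N))
  set f : Ω → A := fun q => φ ⟨q.out.out⁻¹ * u ^ Function.minimalPeriod (u • ·) q.out * q.out.out,
    QuotientGroup.out_conj_pow_minimalPeriod_mem N u q.out⟩ with hf
  -- the value does not depend on the representative
  have key : ∀ (x g n : G) (m : ℕ), Commute x u → n ∈ N →
      ∀ (h : g⁻¹ * u ^ m * g ∈ N) (h' : (x * g * n)⁻¹ * u ^ m * (x * g * n) ∈ N),
      φ ⟨_, h'⟩ = φ ⟨_, h⟩ := by
    intro x g n m hx hn h h'
    have e : (⟨_, h'⟩ : ↥N) = ⟨n, hn⟩⁻¹ * ⟨_, h⟩ * ⟨n, hn⟩ := Subtype.ext (by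
      show (x * g * n)⁻¹ * u ^ m * (x * g * n) = n⁻¹ * (g⁻¹ * u ^ m * g) * n
      calc (x * g * n)⁻¹ * u ^ m * (x * g * n) = n⁻¹ * g⁻¹ * (x⁻¹ * (u ^ m * x)) * g * n := by group
        _ = _ := by rw [← (hx.pow_right m).eq]; group)
    rw [e, map_mul, map_mul, map_inv, mul_comm (φ ⟨n, hn⟩)⁻¹, inv_mul_cancel_right]
  have hval : ∀ (ω : Ω) (g : G), (Quotient.mk'' (g : G ⧸ N) : Ω) = ω →
      ∃ x : G, x ∈ zpowers u ∧ ∃ n ∈ N, ω.out.out = x * g * n := by
    intro ω g hg
    obtain ⟨⟨x, hx⟩, hxe⟩ := Quotient.eq''.1 ((Quotient.out_eq' ω).trans hg.symm)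
    refine ⟨x, hx, (x * g)⁻¹ * ω.out.out, ?_, by group⟩
    refine QuotientGroup.eq.1 ?_
    rw [QuotientGroup.out_eq', ← hxe]
    rfl
  have hper : ∀ (x : G), Commute x u → ∀ a : G ⧸ N,
      Function.minimalPeriod (u • ·) (x • a) = Function.minimalPeriod (u • ·) a := by
    intro x hx a
    have h1 : ∀ n : ℕ, u ^ n • (x • a) = x • a ↔ u ^ n • a = a := fun n => by
      rw [smul_smul, ← (hx.pow_right n).eq, ← smul_smul]
      exact ⟨fun e => MulAction.injective x e, fun e => by rw [e]⟩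
    refine Nat.dvd_antisymm ?_ ?_
    · exact pow_smul_eq_iff_minimalPeriod_dvd.1 ((h1 _).2 (pow_smul_eq_iff_minimalPeriod_dvd.2 dvd_rfl))
    · exact pow_smul_eq_iff_minimalPeriod_dvd.1 ((h1 _).1 (pow_smul_eq_iff_minimalPeriod_dvd.2 dvd_rfl))
  -- the action of `D` on the orbits
  have hmap : ∀ d : ↥D, ∀ a b : G ⧸ N, orbitRel (zpowers u) (G ⧸ N) a b →
      orbitRel (zpowers u) (G ⧸ N) ((d : G) • a) ((d : G) • b) := by
    rintro d a b ⟨⟨x, hx⟩, hxe⟩
    obtain ⟨k, rfl⟩ := mem_zpowers_iff.1 hx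
    refine ⟨⟨u ^ k, hx⟩, ?_⟩
    show u ^ k • ((d : G) • b) = (d : G) • a
    rw [← hxe, smul_smul, ← ((hcomm _ d.2).zpow_right k).eq, ← smul_smul]
    rfl
  letI : MulAction ↥D Ω :=
    { smul := fun d => Quotient.map' (fun a => (d : G) • a) (hmap d)
      one_smul := fun ω => Quotient.inductionOn' ω fun a => congrArg Quotient.mk'' (one_smul G a)
      mul_smul := fun d d' ω => Quotient.inductionOn' ω fun a =>
        congrArg Quotient.mk'' (mul_smul (d : G) d' a) }
  have hsm : ∀ (d : ↥D) (g : G), d • (Quotient.mk'' (g : G ⧸ N) : Ω) =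
      Quotient.mk'' (((d : G) * g : G) : G ⧸ N) := fun _ _ => rfl
  have hperiod : ∀ (ω : Ω) (g : G), (Quotient.mk'' (g : G ⧸ N) : Ω) = ω →
      Function.minimalPeriod (u • ·) ω.out = Function.minimalPeriod (u • ·) (g : G ⧸ N) := by
    intro ω g hg
    obtain ⟨x, hx, n, hn, e⟩ := hval ω g hg
    obtain ⟨k, rfl⟩ := mem_zpowers_iff.1 hx
    rw [show ω.out = (u ^ k) • (g : G ⧸ N) by
      rw [← QuotientGroup.out_eq' ω.out, e]
      exact QuotientGroup.eq.2 (by
        show (u ^ k * g * n)⁻¹ * (u ^ k * g) ∈ N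
        rw [show (u ^ k * g * n)⁻¹ * (u ^ k * g) = n⁻¹ by group]; exact inv_mem hn),
      hper _ (Commute.zpow_left (Commute.refl u) k)]
  have hfval : ∀ (q : Ω) (g : G) (m : ℕ), q.out.out = g → Function.minimalPeriod (u • ·) q.out = m →
      ∀ h : g⁻¹ * u ^ m * g ∈ N, f q = φ ⟨_, h⟩ := by
    intro q g m e1 e2 h
    subst e1 e2
    rfl
  have hfinv : ∀ (d : ↥D) (ω : Ω), f (d • ω) = f ω := by
    intro d ω
    have hω : (Quotient.mk'' ((ω.out.out : G) : G ⧸ N) : Ω) = ω := by
      rw [QuotientGroup.out_eq', Quotient.out_eq']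
    have hdω : (Quotient.mk'' ((((d : G) * ω.out.out) : G) : G ⧸ N) : Ω) = d • ω := by
      rw [← hsm, hω]
    obtain ⟨x, hx, n, hn, e⟩ := hval _ _ hdω
    obtain ⟨k, rfl⟩ := mem_zpowers_iff.1 hx
    have hm : Function.minimalPeriod (u • ·) (d • ω).out = Function.minimalPeriod (u • ·) ω.out := by
      rw [hperiod _ _ hdω, show (((d : G) * ω.out.out : G) : G ⧸ N) = (d : G) • ω.out by
        conv_rhs => rw [← QuotientGroup.out_eq' ω.out]
        rfl, hper _ (hcomm _ d.2)]
    have e2 : (d • ω).out.out = u ^ k * d * ω.out.out * n := by rw [e]; group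
    have h' : (u ^ k * d * ω.out.out * n)⁻¹ * u ^ Function.minimalPeriod (u • ·) ω.out *
        (u ^ k * d * ω.out.out * n) ∈ N := by
      rw [← e2, ← hm]
      exact QuotientGroup.out_conj_pow_minimalPeriod_mem N u _
    rw [hfval _ _ _ e2 hm h', key (u ^ k * d) ω.out.out n _
      ((Commute.zpow_left (Commute.refl u) k).mul_left (hcomm _ d.2)) hn
      (QuotientGroup.out_conj_pow_minimalPeriod_mem N u ω.out) h']
  set p : Ω := Quotient.mk'' ((1 : G) : G ⧸ N) with hp
  have hpfix : ∀ d : ↥D, d • p = p := fun d => by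
    rw [hp, hsm, mul_one]
    exact congrArg Quotient.mk'' (QuotientGroup.eq.2 (by rw [mul_one]; exact inv_mem (hDN d.2)))
  have huniq : ∀ ω : Ω, (∀ d : ↥D, d • ω = ω) → ω ≠ p → f ω = 1 := by
    intro ω hω hne
    set g := ω.out.out with hg
    have hωg : (Quotient.mk'' (g : G ⧸ N) : Ω) = ω := by
      rw [hg, QuotientGroup.out_eq', Quotient.out_eq']
    refine (hfval ω g _ hg.symm rfl (QuotientGroup.out_conj_pow_minimalPeriod_mem N u ω.out)).trans
      (hfix g _ (hperiod ω g hωg) (fun d hd => ?_) (fun hgN => hne ?_) _)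
    · have h0 := hsm ⟨d, hd⟩ g
      rw [hωg, hω, ← hωg] at h0
      obtain ⟨⟨x, hx⟩, hxe⟩ := Quotient.eq''.1 h0.symm
      obtain ⟨k, rfl⟩ := mem_zpowers_iff.1 hx
      refine ⟨-k, ?_⟩
      have h1 : ((u ^ k * g : G) : G ⧸ N) = ((d * g : G) : G ⧸ N) := hxe
      have h2 := QuotientGroup.eq.1 h1
      rwa [show (u ^ k * g)⁻¹ * (d * g) = g⁻¹ * u ^ (-k) * d * g by group] at h2
    · rw [← hωg]
      exact congrArg Quotient.mk'' (QuotientGroup.eq.2 (by rw [mul_one]; exact inv_mem hgN))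
  refine (Eq.trans (by convert rfl) (prod_eq_of_fixed hA hD f hfinv p hpfix huniq)).trans ?_
  obtain ⟨x, hx, n, hn, e⟩ := hval p 1 rfl
  obtain ⟨k, rfl⟩ := mem_zpowers_iff.1 hx
  have hm : Function.minimalPeriod (u • ·) p.out = 1 := by
    rw [hperiod p 1 rfl, Function.minimalPeriod_eq_one_iff_isFixedPt]
    exact QuotientGroup.eq.2 (by simpa using inv_mem hu)
  have h' : (u ^ k * 1 * n)⁻¹ * u ^ 1 * (u ^ k * 1 * n) ∈ N := by
    rw [← e, ← hm]
    exact QuotientGroup.out_conj_pow_minimalPeriod_mem N u _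
  have h0 : (1 : G)⁻¹ * u ^ 1 * 1 ∈ N := by simpa using hu
  refine Eq.trans ?_ ((key (u ^ k) 1 n 1 (Commute.zpow_left (Commute.refl u) k) hn h0 h').trans ?_)
  · exact hfval p _ _ e hm h'
  · exact congrArg φ (Subtype.ext (by simp))

theorem units_sq : ∀ a : ℤˣ, a ^ 2 = 1 := Int.units_sq

/-- Membership of a conjugate in the centraliser of `r`. -/
theorem conj_mem_cent {r g a : G} :
    g⁻¹ * a * g ∈ centralizer ({r} : Set G) ↔ Commute (g * r * g⁻¹) a := by
  rw [mem_centralizer_singleton_iff, commute_iff_eq]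
  constructor <;> intro h
  · calc g * r * g⁻¹ * a = g * (r * (g⁻¹ * a * g)) * g⁻¹ := by group
      _ = g * (g⁻¹ * a * g * r) * g⁻¹ := by rw [h]
      _ = a * (g * r * g⁻¹) := by group
  · calc g⁻¹ * a * g * r = g⁻¹ * (a * (g * r * g⁻¹)) * g := by group
      _ = g⁻¹ * (g * r * g⁻¹ * a) * g := by rw [h]
      _ = r * (g⁻¹ * a * g) := by group

/-- A subgroup of index two avoiding `u`, containing the involutions of `H0` which a two-group holds
at `r`. -/
theorem exists_index_two {r u : G} {H0 : Subgroup G}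
    (hidx : (H0.subgroupOf (centralizer ({r} : Set G))).index = 2)
    (hur : Commute u r) (hu0 : u ∉ H0) (hu4 : u ^ 4 = 1)
    {P : Subgroup G} (hP : IsPGroup 2 ↥P) (hPu : ∀ p ∈ P, Commute p u) (hPr : ∀ p ∈ P, Commute p r)
    (hone : ∀ g : G, Commute (g * r * g⁻¹) u → (∀ p ∈ P, Commute (g * r * g⁻¹) p) →
      g⁻¹ * u * g ∉ H0 → g * r * g⁻¹ = r)
    (htwo : ∀ g : G, Commute (g * r * g⁻¹) (u * u) → ¬ Commute (g * r * g⁻¹) u →
      (∀ p ∈ P, Commute (g * r * g⁻¹) p ∨ Commute (g * r * g⁻¹) (u * p)) →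
      g⁻¹ * (u * u) * g ∈ H0) :
    ∃ G0 : Subgroup G, G0.index = 2 ∧ u ∉ G0 ∧
      ∀ j ∈ H0, j * j = 1 → Commute j r → ∀ Q : Subgroup G, IsPGroup 2 ↥Q →
        (∀ q ∈ Q, Commute q j) → (∀ q ∈ Q, Commute q r) →
        (∀ g : G, Commute (g * r * g⁻¹) j → (∀ q ∈ Q, Commute (g * r * g⁻¹) q) → g * r * g⁻¹ = r) →
        j ∈ G0 := by
  classical
  set C := centralizer ({r} : Set G) with hC
  have hCg : ∀ g : G, g * r * g⁻¹ = r → g ∈ C := fun g h =>
    mem_centralizer_singleton_iff.2 (mul_inv_eq_iff_eq_mul.1 h)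
  have hper : ∀ (w g : G) (m : ℕ), Function.minimalPeriod (w • ·) (g : G ⧸ C) ∣ m ↔
      Commute (g * r * g⁻¹) (w ^ m) := by
    intro w g m
    rw [← pow_smul_eq_iff_minimalPeriod_dvd, Quotient.smul_mk, smul_eq_mul, QuotientGroup.eq,
      ← conj_mem_cent, ← inv_mem_iff]
    simp [mul_assoc, hC]
  have huC : u ∈ C := mem_centralizer_singleton_iff.2 hur.eq
  have hPC : P ≤ C := fun p hp => mem_centralizer_singleton_iff.2 (hPr p hp).eq
  have hT : (sgn H0 hidx).transfer u = sgn H0 hidx ⟨u, huC⟩ := by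
    refine transfer_eq units_sq hP hPC _ huC hPu fun g m hm hd hg h => ?_
    by_cases h0 : g⁻¹ * u ^ m * g ∈ H0
    · exact sgn_eq_one hidx h0
    have hm4 : m ∣ 4 := hm ▸ (hper u g 4).2 (by rw [hu4]; exact Commute.one_right _)
    have hle : m ≤ 4 := Nat.le_of_dvd (by norm_num) hm4
    exfalso
    interval_cases m
    · simp at hm4
    · have hu : Commute (g * r * g⁻¹) u := by
        have := (hper u g 1).1 (hm ▸ dvd_rfl)
        rwa [pow_one] at this
      refine hg (hCg g (hone g hu (fun p hp => ?_) (by rwa [pow_one] at h0)))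
      obtain ⟨k, hk⟩ := hd p hp
      rw [show g⁻¹ * u ^ k * p * g = g⁻¹ * (u ^ k * p) * g by group, conj_mem_cent] at hk
      have := (hu.zpow_right k).inv_right.mul_right hk
      rwa [← mul_assoc, inv_mul_cancel, one_mul] at this
    · have hu : ¬ Commute (g * r * g⁻¹) u := fun h1 => by
        have := (hper u g 1).2 (by rw [pow_one]; exact h1)
        rw [← hm] at this
        norm_num at this
      have hu2 : Commute (g * r * g⁻¹) (u * u) := by
        have := (hper u g 2).1 (hm ▸ dvd_rfl)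
        rwa [pow_two] at this
      refine h0 (pow_two u ▸ htwo g hu2 hu fun p hp => ?_)
      obtain ⟨k, hk⟩ := hd p hp
      rw [show g⁻¹ * u ^ k * p * g = g⁻¹ * (u ^ k * p) * g by group, conj_mem_cent] at hk
      rcases Int.even_or_odd' k with ⟨j, rfl | rfl⟩
      · left
        have hk' : Commute (g * r * g⁻¹) ((u ^ (2 * j : ℤ))⁻¹) := by
          rw [zpow_mul, zpow_two]
          exact (hu2.zpow_right j).inv_right
        have := hk'.mul_right hk
        rwa [← mul_assoc, inv_mul_cancel, one_mul] at this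
      · right
        have hk' : Commute (g * r * g⁻¹) ((u ^ (2 * j : ℤ))⁻¹) := by
          rw [zpow_mul, zpow_two]
          exact (hu2.zpow_right j).inv_right
        have := hk'.mul_right hk
        rwa [zpow_add, zpow_one, ← mul_assoc, ← mul_assoc, inv_mul_cancel, one_mul] at this
    · norm_num at hm4
    · exact h0 (by rw [hu4, mul_one, inv_mul_cancel]; exact H0.one_mem)
  rw [sgn_eq_neg hidx hu0] at hT
  set V := MonoidHom.transfer (sgn H0 hidx) with hV
  refine ⟨V.ker, ?_, ?_, fun j hj hj2 hjr Q hQ h1 h2 h3 => ?_⟩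
  · have hsurj : Function.Surjective V := by
      intro a
      rcases Int.units_eq_one_or a with rfl | rfl
      · exact ⟨1, map_one _⟩
      · exact ⟨u, hT⟩
    rw [Subgroup.index_ker, MonoidHom.range_eq_top.2 hsurj]
    simp [Nat.card_eq_fintype_card]
  · rw [MonoidHom.mem_ker, hT]
    decide
  · have hjC : j ∈ C := mem_centralizer_singleton_iff.2 hjr.eq
    rw [MonoidHom.mem_ker, hV, transfer_eq units_sq hQ
      (fun q hq => mem_centralizer_singleton_iff.2 (h2 q hq).eq) _ hjC h1 fun g m hm hd hg h => ?_]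
    · exact sgn_eq_one hidx hj
    by_cases h0 : g⁻¹ * j ^ m * g ∈ H0
    · exact sgn_eq_one hidx h0
    exfalso
    have hm2 : m ∣ 2 := hm ▸ (hper j g 2).2 (by rw [pow_two, hj2]; exact Commute.one_right _)
    rcases (Nat.dvd_prime Nat.prime_two).1 hm2 with rfl | rfl
    · have hy : Commute (g * r * g⁻¹) j := by
        have := (hper j g 1).1 (hm ▸ dvd_rfl)
        rwa [pow_one] at this
      refine hg (hCg g (h3 g hy fun q hq => ?_))
      obtain ⟨k, hk⟩ := hd q hq
      rw [show g⁻¹ * j ^ k * q * g = g⁻¹ * (j ^ k * q) * g by group, conj_mem_cent] at hk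
      have := (hy.zpow_right k).inv_right.mul_right hk
      rwa [← mul_assoc, inv_mul_cancel, one_mul] at this
    · exact h0 (by rw [pow_two, hj2, mul_one, inv_mul_cancel]; exact H0.one_mem)

end Cfsg.Agent.UThreeLocal.Big.Transfer
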