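import Cfsg.Agent.Lib.UThreeLocal.Big.Transfer.Closed
import Cfsg.Agent.Lib.UThreeLocal.Big.Transfer.Fused
import Cfsg.Agent.Lib.UThreeLocal.Big.Transfer.Generic
import Cfsg.Agent.Lib.UThreeLocal.Loc.Restrict
import Cfsg.Agent.Lib.ThreeTransp.U62Cent.AutChoice

/-!
# A subgroup of index two meeting the centraliser in its linear part
-/

set_option autoImplicit false
set_option linter.unusedSectionVars false
set_option linter.style.haveILetI false
set_option maxRecDepth 100000

namespace Cfsg.Agent.UThreeLocal.Big.Transfer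

open Subgroup
open Cfsg.Agent.ThreeTransp.U62Cent
open Cfsg.Agent.ThreeTransp.U62Cent.W8
open scoped commutatorElement
open Cfsg.Agent.UThreeLocal.Two (Img)

universe u

/-- A group containing the simple image and a further linear element contains all linear isometries. -/
theorem GN_le_of {I S : Subgroup (Equiv.Perm W8)} (hI : INat I) (hIS : I ≤ S) {g : Equiv.Perm W8}
    (hgS : g ∈ S) (hg : g ∈ GN) (hgI : g ∉ I) : GN ≤ S := by
  obtain ⟨k, i, hi, rfl⟩ := hI.cases_GN hg
  have hk : sigP ^ (k % 3) ∈ S := by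
    rw [← pow_eq_pow_mod k sigP_pow_three]
    exact (Subgroup.mul_mem_cancel_right S (hIS hi)).1 hgS
  have hs : sigP ∈ S := by
    have hlt := Nat.mod_lt k (by norm_num : 0 < 3)
    interval_cases hk3 : k % 3
    · exact absurd (by rw [pow_eq_pow_mod k sigP_pow_three, hk3, pow_zero, one_mul]; exact hi) hgI
    · rwa [pow_one] at hk
    · have h4 := mul_mem hk hk
      rwa [← pow_add, show 2 + 2 = 3 + 1 from rfl, pow_succ, sigP_pow_three, one_mul] at h4
  intro x hx
  obtain ⟨m, j, hj, rfl⟩ := hI.cases_GN hx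
  exact mul_mem (pow_mem hs m) (hIS hj)

/-- The simple image is perfect. -/
theorem perfect {I : Subgroup (Equiv.Perm W8)} (hI : INat I) : ⁅I, I⁆ = I := by
  haveI : IsSimpleGroup ↥I := hI.simple
  rcases (inferInstance : (commutator ↥I).Normal).eq_bot_or_eq_top with h | h
  · exfalso
    letI : CommGroup ↥I :=
      { (inferInstance : Group ↥I) with
        mul_comm := fun a b => by
          have : ⁅a, b⁆ ∈ commutator ↥I :=
            commutator_mem_commutator (mem_top a) (mem_top b)
          rw [h, mem_bot] at this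
          exact commutatorElement_eq_one_iff_mul_comm.1 this }
    have := IsSimpleGroup.prime_card (α := ↥I)
    rw [hI.card] at this
    norm_num at this
  · rw [← map_subtype_commutator, h, ← MonoidHom.range_eq_map, range_subtype]

namespace Coord

variable {G : Type u} [Group G] [Finite G] {r : G} {R : Subgroup G} (D : Coord r R)

include D

/-- An outer element of central square whose fixed space is totally singular. -/
theorem exists_u : ∃ u, Commute u r ∧ D.img u ∉ GN ∧ (u * u = 1 ∨ u * u = r) ∧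
    ∀ v, D.img u v = v → qe true v = false := by
  obtain ⟨t, ht, htG⟩ := D.outer
  let T0 : Equiv.Perm W8 := Function.Involutive.toPerm N.tau0 fun v => (N.tau0_spec v).1
  have hT0 : ∀ v, T0 v = N.tau0 v := fun _ => rfl
  have hsemi := D.himg.semi t ht htG
  have hprod : t * T0 ∈ GN := by
    refine ⟨fun v w => ?_, fun v => ?_, fun _ v => ?_⟩
    · show t (N.tau0 (v + w)) = t (N.tau0 v) + t (N.tau0 w)
      rw [N.tau0_add, (D.himg.iso t ht).add]
    · show qe true (t (N.tau0 v)) = qe true v
      rw [(D.himg.iso t ht).q, (N.tau0_spec v).2.1]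
    · show t (N.tau0 (W8.sig v)) = W8.sig (t (N.tau0 v))
      rw [(N.tau0_spec v).2.2.1, hsemi, hsemi, W8.sig_three]
  have hτ : T0 ∈ D.π.range := by
    have := mul_mem (inv_mem ht) (D.GN_le hprod)
    rwa [inv_mul_cancel_left] at this
  have hτG : T0 ∉ GN := fun hG => by
    obtain ⟨v, hv⟩ : ∃ v : W8, W8.sig (W8.sig v) ≠ W8.sig v :=
      ⟨W8.mk 5, fun e => N.sig_ne (by
        have := congrArg W8.sig e
        rw [W8.sig_three] at this
        have h2 := congrArg W8.sig this
        rwa [W8.sig_three] at h2)⟩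
    refine hv ?_
    have h1 := hG.sig rfl (N.tau0 v)
    rw [hT0, hT0, (N.tau0_spec _).2.2.1, (N.tau0_spec v).1] at h1
    exact h1
  obtain ⟨c, hc, hct⟩ := D.exists_img hτ
  have h2 : T0 * T0 = 1 := Equiv.ext fun v => (N.tau0_spec v).1
  have hcc : c * c ∈ R := by rw [← D.img_eq_one (hc.mul_left hc), D.img_mul hc hc, hct, h2]
  have hS := D.semi_of (c := c) (by rw [hct]; exact hτG) (by rw [hct, h2])
  set s := D.vec (c * c) with hs
  have hfs : D.img c s = s := by
    rw [hs, ← D.vec_conj' hc hcc]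
    congr 1
    group
  set w := D.lift (W8.sig s) with hw
  have hwm : w ∈ R := D.lift_mem _
  set u := w * c with hu
  have huI : D.img u = T0 := by rw [hu, D.img_mul (D.commute_R hwm) hc, D.img_R hwm, one_mul, hct]
  have e : u * u = w * (c * w * c⁻¹) * (c * c) := by rw [hu]; group
  have hm1 := mul_mem hwm (D.conj_R hc hwm)
  have hv : D.vec (u * u) = 0 := by
    rw [e, D.vec_mul hm1 hcc, D.vec_mul hwm (D.conj_R hc hwm), D.vec_conj' hc hwm, hw, D.vec_lift, ← hs,
      add_comm (W8.sig s), hS.fix_im hfs, W8.add_self]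
  refine ⟨u, (D.commute_R hwm).mul_left hc, by rw [huI]; exact hτG,
    D.vec_cases (e ▸ mul_mem hm1 hcc) hv, fun v hv => ?_⟩
  rw [huI] at hv
  exact (N.tau0_spec v).2.2.2.1 hv

/-- A subgroup of index two meeting the centraliser in its linear part. -/
theorem exists_half {a : G} (ha3 : a ^ 3 = 1) (har : Commute a r) (haG : D.img a ∈ GN)
    (haI : D.img a ∉ D.I) :
    ∃ G0 : Subgroup G, G0.index = 2 ∧ ∀ c, Commute c r → (c ∈ G0 ↔ c ∈ D.lin) := by
  classical
  obtain ⟨u, hur, hout, hu2, hq0⟩ := D.exists_u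
  have hR : IsPGroup 2 ↥R := IsPGroup.of_card (n := 9) (by rw [D.card_R]; norm_num)
  have hu4 : u ^ 4 = 1 := by
    rw [show (4 : ℕ) = 2 * 2 from rfl, pow_mul, pow_two u]
    rcases hu2 with e | e <;> rw [e, pow_two]
    · exact one_mul 1
    · exact D.rr
  have huR : u * u ∈ R := by
    rcases hu2 with e | e <;> rw [e]
    · exact one_mem _
    · exact D.r_mem
  have hS := D.semi_of hout (by rw [← D.img_mul hur hur, D.img_R huR])
  have hu0 : u ∉ D.lin := fun h => hout (D.mem_lin.1 h).2
  set P := R ⊓ centralizer ({u} : Set G) with hPd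
  have hPmem : ∀ {q}, q ∈ R → D.img u (D.vec q) = D.vec q → q ∈ P := fun hq h =>
    ⟨hq, mem_cent.2 (D.commute_fix hur hout hu2 hq0 hq h)⟩
  have hp2 : ∀ p ∈ P, p * p = 1 := fun p hp =>
    D.sq_one hp.1 (hq0 _ (D.fix_of_commute hur hp.1 (mem_cent.1 hp.2).symm))
  have hrP : r ∈ P := ⟨D.r_mem, mem_cent.2 hur.symm⟩
  -- an element centralising `P` fixes the fixed space
  have hfix : ∀ y, Commute y r → (∀ p ∈ P, Commute y p) → ∀ v, D.img u v = v → D.img y v = v := by
    intro y hy hyP v hv
    have := D.fix_of_commute hy (D.lift_mem v)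
      (hyP _ (hPmem (D.lift_mem v) (by rw [D.vec_lift]; exact hv)))
    rwa [D.vec_lift] at this
  -- it is in `R`, or differs from `u` by an element of `R`
  have hdich : ∀ y, Commute y r → (∀ p ∈ P, Commute y p) →
      D.img y = 1 ∨ D.img y = D.img u ∧ u⁻¹ * y ∈ R := by
    intro y hy hyP
    have hf := hfix y hy hyP
    by_cases hG : D.img y ∈ GN
    · exact Or.inl (hS.ext hG GN.one_mem fun v hv => hf v hv)
    · have hm : D.img u * D.img y ∈ GN := D.himg.two (D.img_mem u) (D.img_mem y) hout hG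
      have h1 : D.img u * D.img y = 1 := hS.ext hm GN.one_mem fun v hv => by
        show D.img u (D.img y v) = v
        rw [hf v hv, hv]
      have e1 : D.img u * D.img u = 1 := by rw [← D.img_mul hur hur, D.img_R huR]
      have e2 : D.img y = D.img u := mul_left_cancel (h1.trans e1.symm)
      exact Or.inr ⟨e2, by rw [← D.img_eq_one (hur.inv_left.mul_left hy), D.img_mul hur.inv_left hy,
        D.img_inv hur, e2, inv_mul_cancel]⟩
  have hwc : ∀ g : G, Commute (g * r * g⁻¹) r → D.img (g * r * g⁻¹) = 1 → g * r * g⁻¹ = r := fun g h h1 =>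
    D.weakly_closed ((D.img_eq_one h).1 h1)
  have hyy : ∀ g : G, g * r * g⁻¹ * (g * r * g⁻¹) = 1 := fun g => by
    rw [show g * r * g⁻¹ * (g * r * g⁻¹) = g * (r * r) * g⁻¹ by group, D.rr, mul_one, mul_inv_cancel]
  have hone : ∀ g : G, Commute (g * r * g⁻¹) u → (∀ p ∈ P, Commute (g * r * g⁻¹) p) →
      g⁻¹ * u * g ∉ D.lin → g * r * g⁻¹ = r := by
    intro g hgu hgP hg0
    set y := g * r * g⁻¹ with hy
    have hyr : Commute y r := hgP r hrP
    rcases hdich y hyr hgP with h1 | ⟨h1, hq⟩
    · exact hwc g hyr h1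
    exfalso
    set q := u⁻¹ * y with hqd
    have hqy : Commute q y := hgu.symm.inv_left.mul_left (Commute.refl y)
    have hder := D.mem_derived hyr (hyy g) (by rw [h1]; exact hout) (by rw [h1]; exact hq0) hq hqy
    have hle : (⁅centralizer ({r} : Set G) ⊓ centralizer ({y} : Set G),
        centralizer ({r} : Set G) ⊓ centralizer ({y} : Set G)⁆ : Subgroup G) ≤
        D.lin.comap (MulAut.conj g⁻¹).toMonoidHom := by
      rw [commutator_le]
      intro a ha b hb
      have hC : ∀ c : G, Commute c y → Commute (g⁻¹ * c * g) r := fun c hc =>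
        mem_cent.1 (conj_mem_cent.2 (hy ▸ hc.symm))
      rw [mem_comap, map_commutatorElement, commutatorElement_def]
      simp only [MulEquiv.coe_toMonoidHom, MulAut.conj_apply, inv_inv]
      exact D.commutator_mem_lin (hC a (mem_cent.1 ha.2)) (hC b (mem_cent.1 hb.2))
    have hql : g⁻¹ * q * g ∈ D.lin := by
      simpa only [mem_comap, MulEquiv.coe_toMonoidHom, MulAut.conj_apply, inv_inv] using hle hder
    refine hg0 ?_
    rw [show g⁻¹ * u * g = g⁻¹ * y * g * (g⁻¹ * q * g)⁻¹ by rw [hqd]; group,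
      show g⁻¹ * y * g = r by rw [hy]; group]
    exact mul_mem (D.R_le_lin D.r_mem) (inv_mem hql)
  have htwo : ∀ g : G, Commute (g * r * g⁻¹) (u * u) → ¬ Commute (g * r * g⁻¹) u →
      (∀ p ∈ P, Commute (g * r * g⁻¹) p ∨ Commute (g * r * g⁻¹) (u * p)) →
      g⁻¹ * (u * u) * g ∈ D.lin := by
    intro g hg2 hgu hgP
    rcases hu2 with e | e
    · rw [e, mul_one, inv_mul_cancel]
      exact one_mem _
    rw [e] at hg2 ⊢
    set y := g * r * g⁻¹ with hy
    by_cases hall : ∀ p ∈ P, Commute y p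
    · refine absurd ?_ hgu
      rcases hdich y hg2 hall with h1 | ⟨-, hq⟩
      · rw [hy, hwc g hg2 h1]
        exact hur.symm
      · set q := u⁻¹ * y with hqd
        have hyq : y = u * q := by rw [hqd, mul_inv_cancel_left]
        have h1 : u * q * u⁻¹ = (u * u * q)⁻¹ := by
          refine eq_inv_of_mul_eq_one_left ?_
          rw [show u * q * u⁻¹ * (u * u * q) = u * q * (u * q) by group, ← hyq, hy, hyy g]
        have hc : Commute q u := D.commute_fix hur hout (Or.inr e) hq0 hq (by
          rw [← D.vec_conj' hur hq, h1, e, D.vec_inv (mul_mem D.r_mem hq), D.vec_mul D.r_mem hq, D.vec_r,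
            zero_add])
        rw [hyq]
        exact (Commute.refl u).mul_left hc
    · push Not at hall
      obtain ⟨p, hp, hyp⟩ := hall
      have hm : Commute y (u * p) := (hgP p hp).resolve_left hyp
      have hmr : Commute (g⁻¹ * (u * p) * g) r := mem_cent.1 (conj_mem_cent.2 (hy ▸ hm))
      have h := D.sq_mem_lin hmr
      rwa [show g⁻¹ * (u * p) * g * (g⁻¹ * (u * p) * g) = g⁻¹ * ((u * p) * (u * p)) * g by group,
        show u * p * (u * p) = u * (p * u) * p by group, (mem_cent.1 hp.2).eq,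
        show u * (u * p) * p = u * u * (p * p) by group, hp2 p hp, mul_one, e] at h
  obtain ⟨G0, h2, hnu, hj⟩ := exists_index_two D.lin_index hur hu0 hu4 (hR.to_le inf_le_left)
    (fun p hp => mem_cent.1 hp.2) (fun p hp => D.commute_R hp.1) hone htwo
  refine ⟨G0, h2, ?_⟩
  haveI hn : G0.Normal := normal_of_index_eq_two h2
  have hsing : ∀ y ∈ R, qe true (D.vec y) = false → D.vec y ≠ 0 → y ∈ G0 := by
    intro y hy hq hv
    refine hj y (D.R_le_lin hy) (D.sq_one hy hq) (D.commute_R hy) (R ⊓ centralizer ({y} : Set G))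
      (hR.to_le inf_le_left) (fun q hq => mem_cent.1 hq.2) (fun q hq => D.commute_R hq.1) fun g _ hgQ => ?_
    have hyr : Commute (g * r * g⁻¹) r := hgQ r ⟨D.r_mem, mem_cent.2 (D.commute_R hy).symm⟩
    refine hwc g hyr (D.eq_one_of_big_fix (D.img_mem _) ?_)
    rw [← ncard_perp hv]
    refine Set.ncard_le_ncard (fun w hw => ?_) (Set.toFinite _)
    have := D.fix_of_commute hyr (D.lift_mem w)
      (hgQ _ ⟨D.lift_mem w, mem_cent.2 (D.commute_of_bb (D.lift_mem w) hy (by rw [D.vec_lift]; exact hw))⟩)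
    rw [D.vec_lift] at this
    exact this
  have hsq : ∀ x : G, x * x ∈ G0 := fun x => (mul_mem_iff_of_index_two h2).2 Iff.rfl
  have hr0 : r ∈ G0 := by
    obtain ⟨v, hv⟩ : ∃ v : W8, qe true v = true := ⟨W8.mk 1, by decide +kernel⟩
    have := hsq (D.lift v)
    rwa [D.sq (D.lift_mem v), D.vec_lift, hv, zb_true] at this
  have hzb : ∀ t, zb r t ∈ G0 := by rintro (_ | _) <;> simp [zb, hr0]
  have hR0 : R ≤ G0 := by
    intro y hy
    obtain ⟨b, -, hb, hb'⟩ := two_singular true (D.vec y)
    have key : ∀ v, qe true v = false → D.lift v ∈ G0 := fun v hv => by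
      by_cases h0 : v = 0
      · obtain ⟨t, ht⟩ := D.eq_zb (one_mem _) (D.lift_mem v) (by rw [D.vec_one, D.vec_lift, h0])
        rw [ht, one_mul]
        exact hzb t
      · exact hsing _ (D.lift_mem v) (by rwa [D.vec_lift]) (by rwa [D.vec_lift])
    obtain ⟨t, ht⟩ := D.eq_zb (mul_mem (D.lift_mem b) (D.lift_mem (D.vec y + b))) hy (by
      rw [D.vec_mul (D.lift_mem _) (D.lift_mem _), D.vec_lift, D.vec_lift, add_comm (D.vec y),
        ← add_assoc, W8.add_self, zero_add])
    rw [ht]
    exact mul_mem (mul_mem (key b hb) (key _ hb')) (hzb t)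
  let S : Subgroup (Equiv.Perm W8) :=
    (G0.comap (centralizer ({r} : Set G)).subtype).map D.π
  have hIS : D.I ≤ S := by
    rw [← perfect D.himg.inat, commutator_le]
    intro s hs t ht
    obtain ⟨c, hc⟩ := D.himg.le hs
    obtain ⟨d, hd⟩ := D.himg.le ht
    refine ⟨⁅c, d⁆, ?_, by rw [map_commutatorElement, hc, hd]⟩
    show ((⁅c, d⁆ : ↥(centralizer ({r} : Set G))) : G) ∈ G0
    simp only [commutatorElement_def, Subgroup.coe_mul, Subgroup.coe_inv]
    simp only [mul_mem_iff_of_index_two h2, inv_mem_iff]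
    tauto
  have hGS : GN ≤ S := GN_le_of D.himg.inat hIS
    ⟨⟨a, mem_cent.2 har⟩, mem_comap.2 (mem_of_coprime_index (K := G0) (x := a) ha3 (by rw [h2]; norm_num)), (D.img_eq _).symm⟩ haG haI
  have hin : ∀ c, c ∈ D.lin → c ∈ G0 := by
    intro c hc
    obtain ⟨hcr, hcG⟩ := D.mem_lin.1 hc
    obtain ⟨d, hd, hdi⟩ := hGS hcG
    have hdr : Commute (d : G) r := mem_cent.1 d.2
    have : (d : G)⁻¹ * c ∈ R := by
      rw [← D.img_eq_one (hdr.inv_left.mul_left hcr), D.img_mul hdr.inv_left hcr, D.img_inv hdr,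
        D.img_eq d.2, hdi, inv_mul_cancel]
    have h' := mul_mem (show (d : G) ∈ G0 from hd) (hR0 this)
    rwa [mul_inv_cancel_left] at h'
  refine fun c hc => ⟨fun h0 => D.mem_lin.2 ⟨hc, ?_⟩, hin c⟩
  by_contra hcout
  have hcu : c * u ∈ G0 := hin _ (D.mem_lin.2 ⟨hc.mul_left hur, by
    rw [D.img_mul hc hur]; exact D.himg.two (D.img_mem c) (D.img_mem u) hcout hout⟩)
  exact hnu ((G0.mul_mem_cancel_left h0).1 hcu)

end Coord

end Cfsg.Agent.UThreeLocal.Big.Transfer
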