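import Cfsg.Agent.Lib.UThreeLocal.Big.Transfer.Half
import Cfsg.Agent.Lib.UThreeLocal.Loc.KNormal

/-!
# The subgroup of index two

`exists_index_two`: the piece of the outer step which uses the link and `C(r) ≤ N(R)`.
-/

set_option autoImplicit false
set_option linter.unusedSectionVars false
set_option linter.style.haveILetI false
set_option maxRecDepth 100000

namespace Cfsg.Agent.UThreeLocal.Big.Transfer

open Subgroup
open Cfsg.Agent.ThreeTransp.U62Cent
open Cfsg.Agent.ThreeTransp.U62Cent.W8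
open scoped commutatorElement
open Cfsg.Agent.UThreeLocal.Two (Img P0)

universe u

variable {G : Type u} [Group G] [Finite G]

/-- A commutative group of order 81 of isometries is not in the simple image. -/
theorem not_le_of_comm {I Γ : Subgroup (Equiv.Perm W8)} (h : Img I Γ) (B : Subgroup (Equiv.Perm W8))
    (hB : Nat.card ↥B = 81) (hc : ∀ a ∈ B, ∀ b ∈ B, Commute a b) : ¬ B ≤ I := by
  classical
  intro hle
  obtain ⟨y, hy, hyP⟩ := h.conj_P0 B hle (n := 4) (by rw [hB]; norm_num)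
  have hadd : ∀ b ∈ B, y * b * y⁻¹ ∈ addPerm := fun b hb =>
    h.inat.add (mul_mem (mul_mem hy (hle hb)) (inv_mem hy))
  let f : ↥B → {A // A ∈ P0.toFinset} := fun b =>
    ⟨cols (y * (b : Equiv.Perm W8) * y⁻¹ : Equiv.Perm W8), List.mem_toFinset.2 (hyP b b.2)⟩
  have hf : Function.Injective f := fun a b e => Subtype.ext (mul_left_cancel (mul_right_cancel
    (perm_ext (hadd a a.2) (hadd b b.2) (congrArg Subtype.val e))))
  have hs : Function.Surjective f := (Nat.bijective_iff_injective_and_card f).2 ⟨hf, by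
    rw [hB, Nat.card_eq_fintype_card, Fintype.card_coe, List.toFinset_card_of_nodup Two.P0_nodup',
      Two.words_ok.2.1]⟩ |>.2
  obtain ⟨p, hp, q, hq, hne⟩ := Two.nonabelian
  obtain ⟨a, ha⟩ := hs ⟨p, List.mem_toFinset.2 hp⟩
  obtain ⟨b, hb⟩ := hs ⟨q, List.mem_toFinset.2 hq⟩
  refine hne ?_
  rw [← show cols (y * (a : Equiv.Perm W8) * y⁻¹ : Equiv.Perm W8) = p from congrArg Subtype.val ha,
    ← show cols (y * (b : Equiv.Perm W8) * y⁻¹ : Equiv.Perm W8) = q from congrArg Subtype.val hb,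
    ← cols_mul (hadd a a.2), ← cols_mul (hadd b b.2),
    show y * (a : Equiv.Perm W8) * y⁻¹ * (y * b * y⁻¹) = y * (a * b) * y⁻¹ by group,
    show y * (b : Equiv.Perm W8) * y⁻¹ * (y * a * y⁻¹) = y * (b * a) * y⁻¹ by group, (hc a a.2 b b.2).eq]

variable {Z Q Q1 Q2 L1 L2 : Subgroup G} {t1 t2 : G} {r z : G} {R A N0 : Subgroup G}

/-- The coordinates at the involution, the simple part, the elementary group and the outer element. -/
theorem exists_coord (h : BigLink Z L1 L2 r R A N0 z)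
    (hM : centralizer ({r} : Set G) ≤ normalizer (R : Set G)) :
    ∃ D : Coord r R, N0 ≤ D.lin ∧ (∃ n, Commute n r ∧ n * z * n⁻¹ = z⁻¹ ∧ n ∉ D.lin) ∧
      ∃ a ∈ A, D.img a ∈ GN ∧ D.img a ∉ D.I := by
  classical
  obtain ⟨F, hFi, hFt, hF3, ψ, hψs, hψk⟩ := h.psp
  obtain ⟨M⟩ := Two.exists_act h.two h.extra h.card_R h.centre h.cent hF3 h.R_le h.N0_le h.normal ψ hψs hψk
    A h.A_exp h.A_R
  set C := centralizer ({r} : Set G) with hC
  set π : ↥C →* Equiv.Perm W8 := M.π.comp (inclusion (le_inf le_rfl hM)) with hπ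
  have hrange : π.range = M.π.range := by
    refine le_antisymm ?_ ?_
    · rintro _ ⟨c, rfl⟩
      exact ⟨_, rfl⟩
    · rintro _ ⟨c, rfl⟩
      exact ⟨⟨c, c.2.1⟩, rfl⟩
  have hIimg : Img M.I π.range := hrange ▸ M.himg
  have hker : ∀ c : ↥C, π c = 1 ↔ (c : G) ∈ R := fun c => M.ker _
  -- the elementary group
  let f : ↥A →* Equiv.Perm W8 := π.comp (inclusion h.A_cent)
  have hf : Function.Injective f := (injective_iff_map_eq_one f).2 fun a ha => Subtype.ext (by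
    have hR := (hker _).1 ha
    have h1 : orderOf (a : G) ∣ Nat.gcd 3 512 := Nat.dvd_gcd (orderOf_dvd_of_pow_eq_one (h.A_exp a a.2))
      (by rw [← h.card_R]; exact (orderOf_mk (a : G) hR) ▸ orderOf_dvd_natCard (⟨(a : G), hR⟩ : ↥R))
    exact orderOf_eq_one_iff.1 (Nat.eq_one_of_dvd_one (h1.trans (dvd_of_eq (by norm_num)))))
  have hB : Nat.card ↥f.range = 81 := (Nat.card_congr (MonoidHom.ofInjective hf).toEquiv).symm.trans h.A_card
  have hBc : ∀ s ∈ f.range, ∀ t ∈ f.range, Commute s t := by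
    rintro _ ⟨a, rfl⟩ _ ⟨b, rfl⟩
    exact (show Commute a b from h.A_comm.is_comm.comm a b).map f
  obtain ⟨g, ⟨a, ha⟩, hgI⟩ := SetLike.not_le_iff_exists.1 (not_le_of_comm hIimg f.range hB hBc)
  have hgr : g ∈ π.range := ⟨_, ha⟩
  have hgG : g ∈ GN := hIimg.lin_of_pow_three hgr (by
    rw [← ha, ← map_pow, show a ^ 3 = 1 from Subtype.ext (by rw [SubgroupClass.coe_pow]; exact h.A_exp a a.2),
      map_one])
  have hGN : GN ≤ π.range := GN_le_of hIimg.inat hIimg.le hgr hgG hgI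
  -- the flipping element
  obtain ⟨n, hn, hnz, hna⟩ := h.flip
  have hnC : n ∈ C := hn.1
  have hnout : π ⟨n, hnC⟩ ∉ GN := by
    intro hnG
    obtain ⟨k, i, hi, ei⟩ := hIimg.inat.cases_GN hgG
    obtain ⟨j, i', hi', ej⟩ := hIimg.inat.cases_GN hnG
    have hmem : π ⟨n, hnC⟩ * g * (π ⟨n, hnC⟩)⁻¹ * g ∈ M.I := by
      rw [← ha]
      show π ⟨n, hnC⟩ * π ⟨(a : G), h.A_cent a.2⟩ * (π ⟨n, hnC⟩)⁻¹ * π ⟨(a : G), h.A_cent a.2⟩ ∈ M.I
      rw [← map_inv, ← map_mul, ← map_mul, ← map_mul]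
      exact M.inner _ (hna a a.2)
    have hsc : ∀ {x : Equiv.Perm W8}, x ∈ GN → ∀ m : ℕ, x * sigP ^ m = sigP ^ m * x := fun hx m =>
      (hIimg.scalar_comm hx m).eq
    have e : π ⟨n, hnC⟩ * g * (π ⟨n, hnC⟩)⁻¹ * g = sigP ^ (2 * k) * (i' * i * i'⁻¹ * i) := by
      rw [ej, show sigP ^ j * i' * g * (sigP ^ j * i')⁻¹ = sigP ^ j * (i' * g * i'⁻¹) * (sigP ^ j)⁻¹ by group,
        ← hsc (mul_mem (mul_mem (hIimg.inat.le hi') hgG) (inv_mem (hIimg.inat.le hi'))) j, mul_inv_cancel_right,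
        ei, two_mul, pow_add]
      calc i' * (sigP ^ k * i) * i'⁻¹ * (sigP ^ k * i)
          = i' * sigP ^ k * (i * i'⁻¹ * sigP ^ k) * i := by group
        _ = sigP ^ k * i' * (sigP ^ k * (i * i'⁻¹)) * i := by
            rw [hsc (mul_mem (hIimg.inat.le hi) (inv_mem (hIimg.inat.le hi'))) k, hsc (hIimg.inat.le hi') k]
        _ = sigP ^ k * (i' * sigP ^ k) * i * i'⁻¹ * i := by group
        _ = sigP ^ k * (sigP ^ k * i') * i * i'⁻¹ * i := by rw [hsc (hIimg.inat.le hi') k]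
        _ = _ := by group
    rw [e, Subgroup.mul_mem_cancel_right _ (mul_mem (mul_mem (mul_mem hi' hi) (inv_mem hi')) hi)] at hmem
    have h1 := hIimg.scalar_mem hmem
    have h3 : sigP ^ (3 * k) = 1 := by rw [pow_mul, sigP_pow_three, one_pow]
    rw [show 3 * k = 2 * k + k by ring, pow_add, h1, one_mul] at h3
    exact hgI (by rw [ei, h3, one_mul]; exact hi)
  let D : Coord r R :=
    { two := h.two, card_R := h.card_R, r_mem := h.centre.ge.trans (map_subtype_le _) (mem_zpowers r)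
      R_le := h.R_le.trans (h.N0_le.trans inf_le_left)
      C_norm := hM
      vec := M.vec, π := π, I := M.I, himg := hIimg
      vec_mul := fun hx hy => M.vec_mul hx hy
      vec_r := M.vec_r
      vec_cases := fun hx h0 => M.vec_cases hx h0
      surj := M.surj
      vec_conj := fun c {x} hx => M.vec_conj (inclusion (le_inf le_rfl hM) c) hx
      ker := hker
      sq := fun hx => M.sq hx
      GN_le := hGN
      outer := ⟨_, ⟨_, rfl⟩, hnout⟩ }
  refine ⟨D, fun m hm => D.mem_lin.2 ⟨mem_cent.1 (h.N0_le hm).1, ?_⟩, ⟨n, mem_cent.1 hnC, hnz, fun hl => ?_⟩,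
    a, a.2, ?_, ?_⟩
  · rw [D.img_eq (h.N0_le hm).1]
    exact hIimg.inat.le (M.inner _ hm)
  · exact hnout (D.img_eq hnC ▸ (D.mem_lin.1 hl).2)
  · rw [D.img_eq (h.A_cent a.2)]
    exact ha ▸ hgG
  · rw [D.img_eq (h.A_cent a.2)]
    exact ha ▸ hgI

theorem mult_facts : Multiplicative.ofAdd (1 : ZMod 3) ≠ 1 ∧
    ∀ x : Multiplicative (ZMod 3), x ^ 64 = 1 → x = 1 := by decide

theorem pow_four : ∀ q : QQ, q * q * (q * q) = 1 := by decide +kernel

/-- A complement as in the setting lies in `Q(L₁ × L₂)`: it cannot exchange the factors, as an element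
trivial on one factor only would give a three-element of the complement. -/
theorem le_QL (F : Frame Z Q Q1 Q2 L1 L2 t1 t2) (P : Subgroup G) (hP : IsPGroup 3 ↥P)
    (hPC : P ≤ centralizer (Z : Set G)) (hPc : Nat.card ↥P = 2187) (L : Subgroup G)
    (hLC : L ≤ centralizer (Z : Set G)) (hL : Nonempty (↥L ≃* QQ))
    (hLn : centralizer (Z : Set G) ≤ normalizer ((Q ⊔ L : Subgroup G) : Set G)) :
    L ≤ Q ⊔ (L1 ⊔ L2) := by
  classical
  have h := F.set
  obtain ⟨e⟩ := hL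
  have hs4 : ∀ s ∈ L, s ^ 4 = 1 := fun s hs => by
    have h1 : (⟨s, hs⟩ : ↥L) * ⟨s, hs⟩ * (⟨s, hs⟩ * ⟨s, hs⟩) = 1 :=
      e.injective (by rw [map_one, map_mul, map_mul]; exact pow_four _)
    have := congrArg Subtype.val h1
    simp only [Subgroup.coe_mul, OneMemClass.coe_one] at this
    rw [show (4 : ℕ) = 2 * 2 from rfl, pow_mul, pow_two, pow_two]
    exact this
  intro s hs
  rcases F.perm s (hLC hs) with ⟨h1, h2⟩ | ⟨h1, h2⟩
  · have h3 := F.cube_mem_QL (hLC hs) (fun x hx => (h1 x).1 hx) fun x hx => (h2 x).1 hx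
    have h4 : s = (s ^ 3)⁻¹ := eq_inv_of_mul_eq_one_left (by rw [← pow_succ', hs4 s hs])
    rw [h4]
    exact inv_mem h3
  exfalso
  haveI : Fact (Nat.Prime 3) := ⟨Nat.prime_three⟩
  -- an element of `P` trivial on the second factor only
  obtain ⟨d, hdP, hd2, hd1⟩ : ∃ d ∈ P, Triv Z Q2 d ∧ ¬ Triv Z Q1 d := by
    obtain ⟨χ1, e1⟩ := F.exists_char hP hPC
    obtain ⟨χ2, e2⟩ := F.symm.exists_char hP hPC
    set Φ := χ1.prod χ2 with hΦ
    have hker : Nat.card ↥Φ.ker ≤ 243 := by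
      rw [← h.Q_card, ← card_subtype P Φ.ker]
      refine Subgroup.card_le_of_le ?_
      rintro _ ⟨g, hg, rfl⟩
      have hg' : (χ1 g, χ2 g) = (1, 1) := hg
      exact F.mem_Q_of_triv (hPC g.2) ((e1 g).1 (Prod.mk.inj hg').1) ((e2 g).1 (Prod.mk.inj hg').2)
    have hrange : Φ.range = ⊤ := by
      refine Subgroup.eq_top_of_le_card _ ?_
      have h3 := Φ.ker.card_mul_index
      rw [index_ker, hPc] at h3
      rw [Nat.card_prod, show Nat.card (Multiplicative (ZMod 3)) = 3 by simp]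
      by_contra hlt
      push Not at hlt
      have : Nat.card ↥Φ.ker * Nat.card ↥Φ.range ≤ 243 * 8 := Nat.mul_le_mul hker (by omega)
      omega
    obtain ⟨g, hg⟩ : (Multiplicative.ofAdd (1 : ZMod 3), (1 : Multiplicative (ZMod 3))) ∈ Φ.range :=
      hrange ▸ mem_top _
    have hg' : (χ1 g, χ2 g) = (Multiplicative.ofAdd (1 : ZMod 3), 1) := hg
    obtain ⟨hg1, hg2⟩ := Prod.mk.inj hg'
    refine ⟨g, g.2, (e2 g).1 hg2, fun ht => ?_⟩
    rw [(e1 g).2 ht] at hg1
    exact mult_facts.1 hg1.symm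
  have hdC := hPC hdP
  -- it fixes both factors
  obtain ⟨a, ha, haZ⟩ := F.exists_notZ
  obtain ⟨b, hb, hab⟩ := F.pair.exists_noncomm h ha haZ
  have hdQ1 : ∀ x, x ∈ Q1 ↔ d * x * d⁻¹ ∈ Q1 := by
    rcases F.perm d hdC with ⟨h1', -⟩ | ⟨-, h2'⟩
    · exact h1'
    exfalso
    have hsub : Q2 ≤ Q1 := fun x hx => by
      have hz := hd2 x hx
      have := (h2' x).1 hx
      have e : x = d * x * d⁻¹ * (x⁻¹ * (d * x * d⁻¹))⁻¹ := by group
      rw [e]
      exact mul_mem this (inv_mem (F.pair.Z1 hz))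
    have heq : Q2 = Q1 := Subgroup.eq_of_le_of_card_ge hsub (by rw [F.pair.card1, F.pair.card2])
    exact hab (F.pair.comm a ha b (heq ▸ hb))
  have hconjZ : ∀ {c w : G}, c ∈ centralizer (Z : Set G) → w ∈ Z → c * w * c⁻¹ = w := fun hc hw =>
    h.conj_Z hc hw
  -- the element of the complement part acting as `d` on the first factor
  set w := s * d⁻¹ * s⁻¹ with hw
  have hwC : w ∈ centralizer (Z : Set G) := mul_mem (mul_mem (hLC hs) (inv_mem hdC)) (inv_mem (hLC hs))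
  have hw1 : Triv Z Q1 w := by
    intro x hx
    set y := s⁻¹ * x * s with hy
    have hy2 : y ∈ Q2 := by
      refine (h2 y).2 ?_
      rwa [show s * y * s⁻¹ = x by rw [hy]; group]
    have hd' : Triv Z Q2 d⁻¹ := triv_inv h hdC hd2
    have := hd' y hy2
    rw [show x⁻¹ * (w * x * w⁻¹) = s * (y⁻¹ * (d⁻¹ * y * d⁻¹⁻¹)) * s⁻¹ by rw [hw, hy]; group,
      hconjZ (hLC hs) this]
    exact this
  have hmul : ∀ {c c' : G}, c ∈ centralizer (Z : Set G) → Triv Z Q1 c → Triv Z Q1 c' → Triv Z Q1 (c * c') := by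
    intro c c' hc t1' t2' x hx
    rw [shift_mul, hconjZ hc (t2' x hx)]
    exact mul_mem (t1' x hx) (t2' x hx)
  have hpow : ∀ n : ℕ, Triv Z Q1 ((d ^ n)⁻¹ * (d * w) ^ n) := by
    intro n
    induction n with
    | zero => intro x hx; simp [Z.one_mem]
    | succ n ih =>
      set t := (d ^ n)⁻¹ * (d * w) ^ n with ht
      have htC : t ∈ centralizer (Z : Set G) :=
        mul_mem (inv_mem (pow_mem hdC n)) (pow_mem (mul_mem hdC hwC) n)
      have e : (d ^ (n + 1))⁻¹ * (d * w) ^ (n + 1) = d⁻¹ * t * d * w := by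
        rw [pow_succ, pow_succ, ht]; group
      rw [e]
      refine hmul (mul_mem (mul_mem (inv_mem hdC) htC) hdC) (fun x hx => ?_) hw1
      have := ih _ ((hdQ1 x).1 hx)
      rw [show x⁻¹ * (d⁻¹ * t * d * x * (d⁻¹ * t * d)⁻¹) =
        d⁻¹ * ((d * x * d⁻¹)⁻¹ * (t * (d * x * d⁻¹) * t⁻¹)) * d⁻¹⁻¹ by group, hconjZ (inv_mem hdC) this]
      exact this
  -- its power in `Q`
  set K := Q ⊔ L with hK
  have hKC : K ≤ centralizer (Z : Set G) := sup_le h.Q_le hLC
  have hdwK : d * w ∈ K := by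
    rw [hw, show d * (s * d⁻¹ * s⁻¹) = d * s * d⁻¹ * s⁻¹ by group]
    exact mul_mem ((mem_normalizer_iff.1 (hLn hdC) s).1 (mem_sup_right hs)) (inv_mem (mem_sup_right hs))
  have h64 : (d * w) ^ 64 ∈ Q := by
    haveI : (Q.subgroupOf K).Normal := normal_subgroupOf_of_le_normalizer (hKC.trans h.Q_norm)
    have h1 := Subgroup.coe_mul_of_right_le_normalizer_left Q L (hLC.trans h.Q_norm)
    have hm : (d * w) ∈ (K : Set G) := hdwK
    rw [hK, h1, Set.mem_mul] at hm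
    obtain ⟨q, hq, l, hl, eq⟩ := hm
    have e2 : QuotientGroup.mk' (Q.subgroupOf K) ⟨d * w, hdwK⟩ =
        QuotientGroup.mk' (Q.subgroupOf K) ⟨l, mem_sup_right hl⟩ := by
      rw [show (⟨d * w, hdwK⟩ : ↥K) = ⟨q, mem_sup_left hq⟩ * ⟨l, mem_sup_right hl⟩ from Subtype.ext eq.symm,
        map_mul, show QuotientGroup.mk' (Q.subgroupOf K) ⟨q, mem_sup_left hq⟩ = 1 from
          (QuotientGroup.eq_one_iff (⟨q, mem_sup_left hq⟩ : ↥K)).2 (mem_subgroupOf.2 hq), one_mul]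
    have e3 : QuotientGroup.mk' (Q.subgroupOf K) (⟨d * w, hdwK⟩ ^ 64) = 1 := by
      rw [map_pow, e2, ← map_pow, show (⟨l, mem_sup_right hl⟩ : ↥K) ^ 64 = 1 from Subtype.ext (by
        rw [SubgroupClass.coe_pow, show (64 : ℕ) = 4 * 16 from rfl, pow_mul, hs4 l hl, one_pow]; rfl), map_one]
    have := mem_subgroupOf.1 ((QuotientGroup.eq_one_iff _).1 e3)
    rwa [SubgroupClass.coe_pow] at this
  -- hence `d` is trivial on the first factor
  refine hd1 ?_
  have hdd : Triv Z Q1 (d ^ 64) := by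
    have e4 : d ^ 64 = (d * w) ^ 64 * ((d ^ 64)⁻¹ * (d * w) ^ 64)⁻¹ := by group
    rw [e4]
    refine hmul (h.Q_le h64) (F.triv_Q h64 F.pair.le1) (triv_inv h ?_ (hpow 64))
    exact mul_mem (inv_mem (pow_mem hdC _)) (pow_mem (mul_mem hdC hwC) _)
  obtain ⟨χ, hχ⟩ := F.exists_char hP hPC
  refine (hχ ⟨d, hdP⟩).1 ?_
  have e5 : χ (⟨d, hdP⟩ ^ 64) = 1 := (hχ _).2 (by simpa using hdd)
  exact mult_facts.2 _ (by rw [← map_pow]; exact e5)

/-- The subgroup of index two of the outer step, from the link and `C(r) ≤ N(R)`. -/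
theorem exists_big_index_two (F : Frame Z Q Q1 Q2 L1 L2 t1 t2) (P : Subgroup G) (hP : IsPGroup 3 ↥P)
    (hPC : P ≤ centralizer (Z : Set G)) (hPc : Nat.card ↥P = 2187) (h : BigLink Z L1 L2 r R A N0 z)
    (hM : centralizer ({r} : Set G) ≤ normalizer (R : Set G)) :
    ∃ K : Subgroup G, K.Normal ∧ K.index = 2 ∧ Z ≤ K ∧ ¬ normalizer (Z : Set G) ≤ K ∧
      ∀ L : Subgroup G, L ≤ centralizer (Z : Set G) → Nonempty (↥L ≃* QQ) →
        centralizer (Z : Set G) ≤ normalizer ((Q ⊔ L : Subgroup G) : Set G) → L ≤ K := by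
  classical
  obtain ⟨D, hN0, ⟨n, hnr, hnz, hnl⟩, a, ha, haG, haI⟩ := exists_coord h hM
  obtain ⟨K, h2, hK⟩ := D.exists_half (h.A_exp a ha) (mem_cent.1 (h.A_cent ha)) haG haI
  haveI : K.Normal := normal_of_index_eq_two h2
  have hZz : zpowers z = Z := zpowers_eq_of_prime F.set.Z_card h.z_Z h.z_ne
  have hN0K : N0 ≤ K := fun m hm => (hK m (mem_cent.1 (h.N0_le hm).1)).2 (hN0 hm)
  have hZK : Z ≤ K := hZz ▸ zpowers_le.2 (hN0K h.z_inner)
  have hQK : Q ≤ K := fun q hq => mem_of_coprime_index (F.cube q hq) (by rw [h2]; norm_num)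
  refine ⟨K, inferInstance, h2, hZK, fun hle => hnl ((hK n hnr).1 (hle ?_)), fun L hLC hL hLn =>
    (le_QL F P hP hPC hPc L hLC hL hLn).trans (sup_le hQK (sup_le (h.L1_le.trans hN0K) (h.L2_le.trans hN0K)))⟩
  refine Subgroup.mem_normalizer_fintype fun x hx => ?_
  rw [SetLike.mem_coe, ← hZz] at hx ⊢
  obtain ⟨k, rfl⟩ := mem_zpowers_iff.1 hx
  rw [← conj_zpow, hnz]
  exact zpow_mem (inv_mem (mem_zpowers z)) k

end Cfsg.Agent.UThreeLocal.Big.Transfer
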