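import Cfsg.Agent.Lib.UThreeLocal.Two.Reduce
import Cfsg.Agent.Lib.UThreeLocal.Big.Interface

/-!
# The centraliser of the involution and its action on the natural module, for the transfer

`Coord r R`: coordinates on `R` and the action of `C(r)`, with the whole group of linear
isometries in the image and an element outside.
-/

set_option autoImplicit false
set_option linter.unusedSectionVars false
set_option linter.style.haveILetI false
set_option maxRecDepth 100000

namespace Cfsg.Agent.UThreeLocal.Big.Transfer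

open Subgroup
open Cfsg.Agent.ThreeTransp.U62Cent
open Cfsg.Agent.ThreeTransp.U62Cent.W8
open Cfsg.Agent.UThreeLocal.Two (Img)

universe u

variable {G : Type u} [Group G] [Finite G]

/-- Coordinates at the involution when `C(r)` normalises `R`. -/
structure Coord (r : G) (R : Subgroup G) where
  two : orderOf r = 2
  card_R : Nat.card ↥R = 512
  r_mem : r ∈ R
  R_le : R ≤ centralizer ({r} : Set G)
  C_norm : centralizer ({r} : Set G) ≤ normalizer (R : Set G)
  vec : G → W8
  π : ↥(centralizer ({r} : Set G)) →* Equiv.Perm W8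
  I : Subgroup (Equiv.Perm W8)
  himg : Img I π.range
  vec_mul : ∀ {x y : G}, x ∈ R → y ∈ R → vec (x * y) = vec x + vec y
  vec_r : vec r = 0
  vec_cases : ∀ {x : G}, x ∈ R → vec x = 0 → x = 1 ∨ x = r
  surj : ∀ v : W8, ∃ x ∈ R, vec x = v
  vec_conj : ∀ (c : ↥(centralizer ({r} : Set G))) {x : G}, x ∈ R →
    vec ((c : G) * x * (c : G)⁻¹) = π c (vec x)
  ker : ∀ c, π c = 1 ↔ (c : G) ∈ R
  sq : ∀ {x : G}, x ∈ R → x * x = zb r (qe true (vec x))
  GN_le : GN ≤ π.range
  outer : ∃ t ∈ π.range, t ∉ GN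

namespace Coord

variable {r : G} {R : Subgroup G} (D : Coord r R)

include D

theorem ne_one : r ≠ 1 := fun e => by
  have := D.two
  rw [e, orderOf_one] at this
  norm_num at this

theorem rr : r * r = 1 := by rw [← pow_two, ← D.two, pow_orderOf_eq_one]

theorem r_inv : r⁻¹ = r := inv_eq_of_mul_eq_one_right D.rr

theorem commute_R {x : G} (hx : x ∈ R) : Commute x r := mem_cent.1 (D.R_le hx)

theorem zb_mem (t : Bool) : zb r t ∈ R := by
  cases t
  · exact one_mem _
  · exact D.r_mem

theorem commute_zb {c : G} (hc : Commute c r) (t : Bool) : Commute c (zb r t) := by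
  cases t
  · exact Commute.one_right c
  · exact hc

theorem vec_one : D.vec 1 = 0 := by
  have h := D.vec_mul R.one_mem R.one_mem
  rw [one_mul] at h
  exact left_eq_add.1 h

theorem vec_zb (t : Bool) : D.vec (zb r t) = 0 := by
  cases t
  · exact D.vec_one
  · exact D.vec_r

theorem vec_inv {x : G} (hx : x ∈ R) : D.vec x⁻¹ = D.vec x := by
  have h := D.vec_mul hx (inv_mem hx)
  rw [mul_inv_cancel, D.vec_one] at h
  exact (W8.eq_of_add h.symm).symm

theorem eq_zb {x y : G} (hx : x ∈ R) (hy : y ∈ R) (h : D.vec x = D.vec y) :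
    ∃ t, y = x * zb r t := by
  have h' : D.vec (x⁻¹ * y) = 0 := by
    rw [D.vec_mul (inv_mem hx) hy, D.vec_inv hx, h, W8.add_self]
  rcases D.vec_cases (mul_mem (inv_mem hx) hy) h' with e | e
  · exact ⟨false, by rw [zb_false, mul_one, inv_mul_eq_one.1 e]⟩
  · exact ⟨true, by rw [zb_true, ← e, mul_inv_cancel_left]⟩

/-- a chosen lift -/
noncomputable def lift (v : W8) : G := (D.surj v).choose

theorem lift_mem (v : W8) : D.lift v ∈ R := (D.surj v).choose_spec.1

theorem vec_lift (v : W8) : D.vec (D.lift v) = v := (D.surj v).choose_spec.2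

theorem exists_lift {x : G} (hx : x ∈ R) : ∃ t, x = D.lift (D.vec x) * zb r t :=
  D.eq_zb (D.lift_mem _) hx (D.vec_lift _)

theorem inv_eq {x : G} (hx : x ∈ R) : x⁻¹ = x * zb r (qe true (D.vec x)) := by
  refine inv_eq_of_mul_eq_one_right ?_
  rw [← mul_assoc, D.sq hx, zb_mul D.rr, Bool.xor_self, zb_false]

theorem sq_one {x : G} (hx : x ∈ R) (hq : qe true (D.vec x) = false) : x * x = 1 := by
  rw [D.sq hx, hq, zb_false]

theorem qe_of_sq {x : G} (hx : x ∈ R) (h : x * x = 1) : qe true (D.vec x) = false :=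
  zb_ne D.ne_one (((D.sq hx).symm.trans h).trans (zb_false r).symm)

theorem comm {x y : G} (hx : x ∈ R) (hy : y ∈ R) :
    x * y = zb r (bb (D.vec x) (D.vec y)) * (y * x) := by
  have h := D.sq (mul_mem hx hy)
  rw [D.vec_mul hx hy, qe_add] at h
  have hr : ∀ (t : Bool) {a : G}, a ∈ R → a * zb r t = zb r t * a := fun t _ ha =>
    zb_central (D.commute_R ha).eq t
  have hl : ∀ (t : Bool) {a : G}, a ∈ R → ∀ b, a * (zb r t * b) = zb r t * (a * b) := fun t a ha b => by
    rw [← mul_assoc, hr t ha, mul_assoc]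
  have e : y * x = zb r (bb (D.vec x) (D.vec y)) * (x * y) := by
    calc y * x = x⁻¹ * (x * y * (x * y)) * y⁻¹ := by group
      _ = zb r (qe true (D.vec x)) * zb r (xor (xor (qe true (D.vec x)) (qe true (D.vec y)))
            (bb (D.vec x) (D.vec y))) * zb r (qe true (D.vec y)) * (x * y) := by
          rw [h, D.inv_eq hx, D.inv_eq hy]
          simp only [mul_assoc]
          rw [hr (qe true (D.vec y)) hy, hl _ hx, hl _ hx, hl _ hx]
      _ = _ := by
          rw [zb_mul D.rr, zb_mul D.rr]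
          congr 2
          cases qe true (D.vec x) <;> cases qe true (D.vec y) <;> cases bb (D.vec x) (D.vec y) <;> rfl
  rw [e, ← mul_assoc, zb_mul D.rr, Bool.xor_self, zb_false, one_mul]

theorem commute_of_bb {x y : G} (hx : x ∈ R) (hy : y ∈ R) (h : bb (D.vec x) (D.vec y) = false) :
    Commute x y := by
  show x * y = y * x
  rw [D.comm hx hy, h, zb_false, one_mul]

theorem bb_of_commute {x y : G} (hx : x ∈ R) (hy : y ∈ R) (h : Commute x y) :
    bb (D.vec x) (D.vec y) = false := by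
  refine zb_ne D.ne_one ?_
  rw [zb_false]
  exact mul_eq_right.1 ((D.comm hx hy).symm.trans h.eq)

theorem conj_eq {y x : G} (hy : y ∈ R) (hx : x ∈ R) :
    y * x * y⁻¹ = x * zb r (bb (D.vec y) (D.vec x)) := by
  rw [mul_inv_eq_iff_eq_mul, D.comm hy hx, ← mul_assoc, zb_central (D.commute_R hx).eq]

/-- the image of an element of the centraliser -/
noncomputable def img (c : G) : Equiv.Perm W8 :=
  letI := Classical.propDecidable (c ∈ centralizer ({r} : Set G))
  if h : c ∈ centralizer ({r} : Set G) then D.π ⟨c, h⟩ else 1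

theorem img_eq {c : G} (h : c ∈ centralizer ({r} : Set G)) : D.img c = D.π ⟨c, h⟩ := dif_pos h

theorem img_mem (c : G) : D.img c ∈ D.π.range := by
  classical
  unfold img
  split
  · exact ⟨_, rfl⟩
  · exact one_mem _

theorem img_mul {c d : G} (hc : Commute c r) (hd : Commute d r) :
    D.img (c * d) = D.img c * D.img d := by
  rw [D.img_eq (mem_cent.2 hc), D.img_eq (mem_cent.2 hd), D.img_eq (mem_cent.2 (hc.mul_left hd)),
    ← map_mul]
  rfl

theorem img_inv {c : G} (hc : Commute c r) : D.img c⁻¹ = (D.img c)⁻¹ := by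
  rw [D.img_eq (mem_cent.2 hc), D.img_eq (mem_cent.2 hc.inv_left), ← map_inv]
  rfl

theorem img_conj {c d : G} (hc : Commute c r) (hd : Commute d r) :
    D.img (c * d * c⁻¹) = D.img c * D.img d * (D.img c)⁻¹ := by
  rw [D.img_mul (hc.mul_left hd) hc.inv_left, D.img_mul hc hd, D.img_inv hc]

theorem img_eq_one {c : G} (hc : Commute c r) : D.img c = 1 ↔ c ∈ R := by
  rw [D.img_eq (mem_cent.2 hc), D.ker]

theorem img_R {c : G} (hc : c ∈ R) : D.img c = 1 := (D.img_eq_one (D.commute_R hc)).2 hc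

theorem exists_img {t : Equiv.Perm W8} (ht : t ∈ D.π.range) : ∃ c, Commute c r ∧ D.img c = t := by
  obtain ⟨c, rfl⟩ := ht
  exact ⟨c, mem_cent.1 c.2, D.img_eq c.2⟩

theorem vec_conj' {c x : G} (hc : Commute c r) (hx : x ∈ R) :
    D.vec (c * x * c⁻¹) = D.img c (D.vec x) := by
  rw [D.img_eq (mem_cent.2 hc)]
  exact D.vec_conj ⟨c, mem_cent.2 hc⟩ hx

theorem conj_R {c x : G} (hc : Commute c r) (hx : x ∈ R) : c * x * c⁻¹ ∈ R :=
  (mem_normalizer_iff.1 (D.C_norm (mem_cent.2 hc)) x).1 hx

theorem img_add (c : G) (v w : W8) : D.img c (v + w) = D.img c v + D.img c w :=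
  (D.himg.iso _ (D.img_mem c)).add v w

theorem img_zero (c : G) : D.img c 0 = 0 := additive_zero (D.img_add c)

theorem img_q (c : G) (v : W8) : qe true (D.img c v) = qe true v := (D.himg.iso _ (D.img_mem c)).q v

theorem img_bb (c : G) (v w : W8) : bb (D.img c v) (D.img c w) = bb v w :=
  (D.himg.iso _ (D.img_mem c)).bb v w

theorem commutator_R {c y : G} (hc : Commute c r) (hy : y ∈ R) :
    c * y * c⁻¹ * y⁻¹ ∈ R ∧ D.vec (c * y * c⁻¹ * y⁻¹) = D.img c (D.vec y) + D.vec y :=
  ⟨mul_mem (D.conj_R hc hy) (inv_mem hy), by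
    rw [D.vec_mul (D.conj_R hc hy) (inv_mem hy), D.vec_conj' hc hy, D.vec_inv hy]⟩

theorem fix_of_commute {c x : G} (hc : Commute c r) (hx : x ∈ R) (h : Commute c x) :
    D.img c (D.vec x) = D.vec x := by
  rw [← D.vec_conj' hc hx, h.eq, mul_inv_cancel_right]

/-- An element with semilinear involutory image as a semilinear involution. -/
theorem semi_of {c : G} (hout : D.img c ∉ GN) (h2 : D.img c * D.img c = 1) : N.Semi (D.img c) where
  add := D.img_add c
  q := D.img_q c
  inv v := congrArg (fun s : Equiv.Perm W8 => s v) h2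
  semi := D.himg.semi _ (D.img_mem c) hout

/-- the part acting linearly -/
def lin : Subgroup G := (GN.comap D.π).map (centralizer ({r} : Set G)).subtype

theorem mem_lin {c : G} : c ∈ D.lin ↔ Commute c r ∧ D.img c ∈ GN := by
  constructor
  · rintro ⟨c, hc, rfl⟩
    exact ⟨mem_cent.1 c.2, (D.img_eq c.2).symm ▸ hc⟩
  · rintro ⟨h1, h2⟩
    refine ⟨⟨c, mem_cent.2 h1⟩, ?_, rfl⟩
    show D.π ⟨c, mem_cent.2 h1⟩ ∈ GN
    rwa [← D.img_eq]

theorem R_le_lin : R ≤ D.lin := fun _ hx => D.mem_lin.2 ⟨D.commute_R hx, by rw [D.img_R hx]; exact one_mem _⟩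

theorem mul_mem_GN_iff {t s : Equiv.Perm W8} (ht : t ∈ D.π.range) (hs : s ∈ D.π.range) :
    t * s ∈ GN ↔ (t ∈ GN ↔ s ∈ GN) := by
  by_cases h1 : t ∈ GN
  · simp [Subgroup.mul_mem_cancel_left GN h1, h1]
  by_cases h2 : s ∈ GN
  · simp [Subgroup.mul_mem_cancel_right GN h2, h1, h2]
  · simp [D.himg.two ht hs h1 h2, h1, h2]

theorem lin_index : (D.lin.subgroupOf (centralizer ({r} : Set G))).index = 2 := by
  obtain ⟨t, ht, htG⟩ := D.outer
  obtain ⟨⟨c, hc⟩, e⟩ := ht
  refine index_eq_two_iff.2 ⟨⟨c, hc⟩, fun b => ?_⟩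
  simp only [mem_subgroupOf]
  have hmem : ∀ d : ↥(centralizer ({r} : Set G)), ((d : G) ∈ D.lin ↔ D.π d ∈ GN) := fun d => by
    rw [D.mem_lin, D.img_eq d.2]
    exact and_iff_right (mem_cent.1 d.2)
  rw [hmem, hmem, map_mul, D.mul_mem_GN_iff ⟨b, rfl⟩ ⟨_, rfl⟩, e]
  by_cases hb : D.π b ∈ GN <;> simp [hb, htG, Xor']

theorem sq_mem_lin {c : G} (hc : Commute c r) : c * c ∈ D.lin :=
  D.mem_lin.2 ⟨hc.mul_left hc, by
    rw [D.img_mul hc hc, D.mul_mem_GN_iff (D.img_mem c) (D.img_mem c)]⟩

theorem commutator_mem_lin {c d : G} (hc : Commute c r) (hd : Commute d r) :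
    c * d * c⁻¹ * d⁻¹ ∈ D.lin := by
  have h1 := hc.mul_left hd
  have h2 := h1.mul_left hc.inv_left
  refine D.mem_lin.2 ⟨h2.mul_left hd.inv_left, ?_⟩
  rw [D.img_mul h2 hd.inv_left, D.mul_mem_GN_iff (D.img_mem _) (D.img_mem _), D.img_mul h1 hc.inv_left,
    D.mul_mem_GN_iff (D.img_mem _) (D.img_mem _), D.img_mul hc hd,
    D.mul_mem_GN_iff (D.img_mem _) (D.img_mem _), D.img_inv hc, D.img_inv hd, inv_mem_iff, inv_mem_iff]
  tauto

/-- No nontrivial member of the image fixes half of the space. -/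
theorem eq_one_of_big_fix {t : Equiv.Perm W8} (ht : t ∈ D.π.range)
    (h : 128 ≤ {v : W8 | t v = v}.ncard) : t = 1 := by
  classical
  by_cases hG : t ∈ GN
  swap
  · have := D.himg.semi_fix ht hG
    omega
  refine Equiv.ext fun v => ?_
  show t v = v
  have hadd := (D.himg.iso t ht).add
  by_contra hv
  set F := {v : W8 | t v = v} with hF
  have hplus : ∀ {a b}, a ∈ F → b ∈ F → a + b ∈ F := fun {a b} ha hb => by
    rw [hF, Set.mem_setOf_eq, hadd, ha, hb]
  have hsig : ∀ {a}, a ∈ F → W8.sig a ∈ F := fun {a} ha => by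
    rw [hF, Set.mem_setOf_eq, hG.sig rfl, ha]
  have huniv : ∀ w, w ∈ F ∨ w + v ∈ F := by
    by_contra hcon
    push Not at hcon
    obtain ⟨w, hw1, hw2⟩ := hcon
    have hdis : Disjoint F ((· + v) '' F) := by
      rw [Set.disjoint_left]
      rintro a ha ⟨b, hb, rfl⟩
      refine hv (show v ∈ F from ?_)
      have := hplus hb ha
      rwa [← add_assoc, W8.add_self, zero_add] at this
    have hsub : F ∪ (· + v) '' F ⊆ Set.univ \ {w} := by
      rintro a (ha | ⟨b, hb, rfl⟩) <;> refine ⟨trivial, fun e => ?_⟩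
      · exact hw1 (e ▸ ha)
      · refine hw2 ?_
        rw [← (e : b + v = w), add_assoc, W8.add_self, add_zero]
        exact hb
    have h1 := Set.ncard_le_ncard hsub
    rw [Set.ncard_union_eq hdis, Set.ncard_image_of_injective _ (add_left_injective v)] at h1
    have h2 : (Set.univ \ {w} : Set W8).ncard = 255 := by
      rw [Set.ncard_sdiff (by simp), Set.ncard_univ, Set.ncard_singleton]
      rw [show Nat.card W8 = 256 from Nat.card_fin 256]
    omega
  rcases huniv (W8.sig v) with h1 | h1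
  · refine hv ?_
    have := hsig (hsig h1)
    rwa [W8.sig_three] at this
  · refine hv ?_
    rw [← W8.sig_sig] at h1
    have := hsig h1
    rwa [W8.sig_three] at this

/-- The lifts of a set of vectors centralised by `c`. -/
theorem ncard_le_card {S : Subgroup G} {F : Set W8} (h : ∀ v ∈ F, ∀ t, D.lift v * zb r t ∈ S) :
    2 * F.ncard ≤ Nat.card ↥S := by
  classical
  have hi : Function.Injective (fun p : ↥F × Bool => (⟨_, h p.1 p.1.2 p.2⟩ : ↥S)) := by
    rintro ⟨v, t⟩ ⟨w, s⟩ e
    have e' := congrArg Subtype.val e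
    have hvw : (v : W8) = w := by
      have := congrArg D.vec e'
      simpa only [D.vec_mul (D.lift_mem _) (D.zb_mem _), D.vec_lift, D.vec_zb, add_zero] using this
    obtain rfl := Subtype.ext hvw
    exact Prod.ext rfl (zb_ne D.ne_one (mul_left_cancel e'))
  have := Nat.card_le_card_of_injective _ hi
  rw [Nat.card_prod, Nat.card_coe_set_eq, Nat.card_eq_fintype_card (α := Bool), Fintype.card_bool] at this
  omega

theorem card_le {S : Subgroup G} (hS : S ≤ R) {F : Set W8} (h : ∀ x ∈ S, D.vec x ∈ F) :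
    Nat.card ↥S ≤ 2 * F.ncard := by
  classical
  let f : ↥S → ↥F × Bool := fun x =>
    (⟨D.vec x, h x x.2⟩, decide ((x : G) = D.lift (D.vec x)))
  have hf : Function.Injective f := by
    intro a b e
    simp only [f, Prod.mk.injEq, Subtype.mk.injEq, decide_eq_decide] at e
    obtain ⟨t, ht⟩ := D.exists_lift (hS a.2)
    obtain ⟨s, hs⟩ := D.exists_lift (hS b.2)
    refine Subtype.ext ?_
    rw [ht, hs, e.1]
    cases t <;> cases s <;> try rfl
    · exfalso
      exact D.ne_one (mul_eq_left.1 (hs.symm.trans (e.2.1 (ht.trans (mul_one _)))))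
    · exfalso
      exact D.ne_one (mul_eq_left.1 (ht.symm.trans (e.2.2 (hs.trans (mul_one _)))))
  have := Nat.card_le_card_of_injective f hf
  rw [Nat.card_prod, Nat.card_coe_set_eq, Nat.card_eq_fintype_card (α := Bool), Fintype.card_bool] at this
  omega

end Coord

end Cfsg.Agent.UThreeLocal.Big.Transfer
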